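import Cfsg.Agent.S0539

set_option autoImplicit false
open scoped Pointwise

/-!
Helper library (helper3): relative form of the Wielandt normalizing lemma (S0539), and
subnormality of all subgroups of finite nilpotent groups.
-/

namespace Cfsg.Agent.Helper3

universe u

theorem map_subtype_conj {G : Type u} [Group G] (V : Subgroup G) (v : V) (B' : Subgroup V) :
    (MulAut.conj v • B').map V.subtype = MulAut.conj (v : G) • (B'.map V.subtype) := by
  show (B'.map (MulAut.conj v).toMonoidHom).map V.subtype
    = (B'.map V.subtype).map (MulAut.conj (v : G)).toMonoidHom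
  rw [Subgroup.map_map, Subgroup.map_map]
  congr 1

/-- Relative version of S0539 inside a subgroup `V`. -/
theorem zipper_rel {G : Type u} [Group G] [Finite G] (V : Subgroup G) (S S₀ : Set (Subgroup G))
    (hSV : ∀ B ∈ S, B ≤ V) (hS : ∀ B ∈ S, (B.subgroupOf V).IsSubnormal)
    (hconj : ∀ B ∈ S, ∀ v ∈ V, MulAut.conj v • B ∈ S) (h₀ : S₀ ⊂ S) :
    ∃ X ∈ S, X ∉ S₀ ∧ X ≤ Subgroup.normalizer ((sSup S₀ : Subgroup G) : Set G) := by
  have hcm : ∀ B' : Subgroup V, (B'.map V.subtype).subgroupOf V = B' := fun B' =>
    Subgroup.comap_map_eq_self_of_injective V.subtype_injective B'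
  have hmc : ∀ B : Subgroup G, B ≤ V → (B.subgroupOf V).map V.subtype = B := fun B hB => by
    rw [Subgroup.subgroupOf_map_subtype, inf_of_le_left hB]
  obtain ⟨X', hX'S, hX'0, hX'n⟩ := Cfsg.Agent.S0539.result (G := V)
    {B' : Subgroup V | B'.map V.subtype ∈ S} {B' : Subgroup V | B'.map V.subtype ∈ S₀}
    (fun B' hB' => by
      have := hS _ hB'
      rwa [hcm] at this)
    (fun B' hB' v => by
      show (MulAut.conj v • B').map V.subtype ∈ S
      rw [map_subtype_conj]
      exact hconj _ hB' v v.2)
    (by
      refine ⟨fun B' hB' => h₀.subset hB', fun hsub => ?_⟩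
      obtain ⟨X, hXS, hX0⟩ := Set.exists_of_ssubset h₀
      have h1 : X.subgroupOf V ∈ {B' : Subgroup V | B'.map V.subtype ∈ S} := by
        show (X.subgroupOf V).map V.subtype ∈ S
        rw [hmc X (hSV X hXS)]; exact hXS
      have h2 := hsub h1
      have h3 : (X.subgroupOf V).map V.subtype ∈ S₀ := h2
      rw [hmc X (hSV X hXS)] at h3
      exact hX0 h3)
  have hsup : (sSup {B' : Subgroup V | B'.map V.subtype ∈ S₀}).map V.subtype = sSup S₀ := by
    apply le_antisymm
    · rw [Subgroup.map_le_iff_le_comap]
      apply sSup_le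
      intro B' hB'
      rw [← Subgroup.map_le_iff_le_comap]
      exact le_sSup hB'
    · apply sSup_le
      intro B hB
      have hBV : B ≤ V := hSV B (h₀.subset hB)
      rw [← hmc B hBV]
      apply Subgroup.map_mono
      apply le_sSup
      show (B.subgroupOf V).map V.subtype ∈ S₀
      rw [hmc B hBV]; exact hB
  refine ⟨X'.map V.subtype, hX'S, hX'0, ?_⟩
  have h1 := Subgroup.map_mono (f := V.subtype) hX'n
  have h2 := Subgroup.le_normalizer_map (H := sSup {B' : Subgroup V | B'.map V.subtype ∈ S₀})
    V.subtype
  rw [hsup] at h2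
  exact h1.trans h2

/-- every subgroup of a finite group with the normalizer condition is subnormal -/
theorem isSubnormal_of_normalizerCondition {G : Type u} [Group G] [Finite G]
    (h : NormalizerCondition G) : ∀ (n : ℕ) (H : Subgroup G), H.index = n → H.IsSubnormal := by
  intro n
  induction n using Nat.strong_induction_on with
  | _ n ih =>
    intro H hn
    by_cases hH : H = ⊤
    · rw [hH]; exact Subgroup.IsSubnormal.top
    · have hlt : H < Subgroup.normalizer (H : Set G) := h H (lt_top_iff_ne_top.mpr hH)
      have hidx : (Subgroup.normalizer (H : Set G)).index < n := hn ▸ Subgroup.index_strictAnti hlt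
      have := ih _ hidx _ rfl
      exact Subgroup.IsSubnormal.step _ _ Subgroup.le_normalizer this Subgroup.normal_in_normalizer

theorem isSubnormal_of_isPGroup {G : Type u} [Group G] [Finite G] {p : ℕ} [Fact p.Prime]
    (hG : IsPGroup p G) (H : Subgroup G) : H.IsSubnormal := by
  haveI := hG.isNilpotent
  exact isSubnormal_of_normalizerCondition Group.normalizerCondition_of_isNilpotent _ H rfl

end Cfsg.Agent.Helper3
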