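import Mathlib

/-!
Helper library (helper3): bridge from an action by automorphisms (`MulDistribMulAction A G`)
to the "two subgroups of an ambient group" setting, via the semidirect product `G ⋊ A`.
This lets the coprime-action lemmas stated for subgroups `A`, `K` of an ambient group (with `A`
normalizing `K`) be applied to abstract actions.
-/

set_option autoImplicit false

namespace Cfsg.Agent.Helper3.ActBridge

open scoped commutatorElement

variable (G A : Type*) [Group G] [Group A] [MulDistribMulAction A G]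

/-- The semidirect product `G ⋊ A` attached to an action by automorphisms. -/
abbrev Gam := G ⋊[MulDistribMulAction.toMulAut A G] A

/-- `G` inside `G ⋊ A`. -/
def iG : G →* Gam G A := SemidirectProduct.inl

/-- `A` inside `G ⋊ A`. -/
def iA : A →* Gam G A := SemidirectProduct.inr

/-- The image of `G` in `G ⋊ A`. -/
def Gs : Subgroup (Gam G A) := (iG G A).range

/-- The image of `A` in `G ⋊ A`. -/
def As : Subgroup (Gam G A) := (iA G A).range

variable {G A}

theorem iG_injective : Function.Injective (iG G A) := SemidirectProduct.inl_injective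

theorem iA_injective : Function.Injective (iA G A) := SemidirectProduct.inr_injective

theorem conj_iA_iG (a : A) (g : G) :
    iA G A a * iG G A g * (iA G A a)⁻¹ = iG G A (a • g) := by
  show SemidirectProduct.inr a * SemidirectProduct.inl g * (SemidirectProduct.inr a)⁻¹ =
    SemidirectProduct.inl (a • g)
  rw [← map_inv, ← SemidirectProduct.inl_aut]
  rfl

theorem finite_gam [Finite G] [Finite A] : Finite (Gam G A) :=
  Finite.of_equiv _ SemidirectProduct.equivProd.symm

theorem Gs_normal : (Gs G A).Normal := by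
  unfold Gs iG
  rw [SemidirectProduct.range_inl_eq_ker_rightHom]
  infer_instance

theorem card_Gs : Nat.card (Gs G A) = Nat.card G :=
  (Nat.card_congr (MonoidHom.ofInjective (iG_injective (G := G) (A := A))).toEquiv).symm

theorem card_As : Nat.card (As G A) = Nat.card A :=
  (Nat.card_congr (MonoidHom.ofInjective (iA_injective (G := G) (A := A))).toEquiv).symm

theorem As_le_normalizer_Gs :
    As G A ≤ Subgroup.normalizer ((Gs G A : Subgroup (Gam G A)) : Set (Gam G A)) := by
  haveI := Gs_normal (G := G) (A := A)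
  rw [Subgroup.normalizer_eq_top]
  exact le_top

theorem coprime_As_Gs (h : (Nat.card A).Coprime (Nat.card G)) :
    (Nat.card (As G A)).Coprime (Nat.card (Gs G A)) := by
  rw [card_As, card_Gs]; exact h

theorem isSolvable_Gs [h : Group.IsSolvable G] : Group.IsSolvable (Gs G A) :=
  Group.isSolvable_of_surjective (f := (iG G A).rangeRestrict) (iG G A).rangeRestrict_surjective

theorem isSolvable_As [h : Group.IsSolvable A] : Group.IsSolvable (As G A) :=
  Group.isSolvable_of_surjective (f := (iA G A).rangeRestrict) (iA G A).rangeRestrict_surjective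

theorem Gs_eq_map_top : Gs G A = (⊤ : Subgroup G).map (iG G A) := by
  rw [← MonoidHom.range_eq_map]; rfl

theorem map_iG_le_Gs (H : Subgroup G) : H.map (iG G A) ≤ Gs G A := by
  rintro x ⟨h, -, rfl⟩
  exact ⟨h, rfl⟩

/-- An `A`-invariant subgroup of `G` is normalized by `A` in `G ⋊ A`. -/
theorem As_le_normalizer_map (H : Subgroup G) (hH : ∀ a : A, ∀ x ∈ H, a • x ∈ H) :
    As G A ≤ Subgroup.normalizer ((H.map (iG G A) : Subgroup (Gam G A)) : Set (Gam G A)) := by
  rintro y ⟨a, rfl⟩
  rw [Subgroup.mem_normalizer_iff]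
  intro x
  constructor
  · rintro ⟨h, hh, rfl⟩
    rw [conj_iA_iG]
    exact Subgroup.mem_map_of_mem _ (hH a h hh)
  · rintro ⟨h, hh, hx⟩
    have e : x = iA G A a⁻¹ * iG G A h * (iA G A a⁻¹)⁻¹ := by
      rw [hx, map_inv]; group
    rw [e, conj_iA_iG]
    exact Subgroup.mem_map_of_mem _ (hH a⁻¹ h hh)

theorem smul_mem_of_le_normalizer (H : Subgroup G)
    (h : As G A ≤ Subgroup.normalizer ((H.map (iG G A) : Subgroup (Gam G A)) : Set (Gam G A))) :
    ∀ a : A, ∀ x ∈ H, a • x ∈ H := by
  intro a x hx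
  have h1 := (Subgroup.mem_normalizer_iff.1 (h ⟨a, rfl⟩) (iG G A x)).1
    (Subgroup.mem_map_of_mem _ hx)
  rw [conj_iA_iG] at h1
  exact (Subgroup.mem_map_iff_mem iG_injective).1 h1

theorem iG_mem_centralizer_iff (g : G) :
    iG G A g ∈ Subgroup.centralizer ((As G A : Subgroup (Gam G A)) : Set (Gam G A)) ↔
      ∀ a : A, a • g = g := by
  rw [Subgroup.mem_centralizer_iff]
  constructor
  · intro h a
    have h1 := h (iA G A a) ⟨a, rfl⟩
    apply iG_injective (G := G) (A := A)
    rw [← conj_iA_iG, h1]; group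
  · rintro h y ⟨a, rfl⟩
    have h1 := conj_iA_iG a g
    rw [h a] at h1
    calc iA G A a * iG G A g = (iA G A a * iG G A g * (iA G A a)⁻¹) * iA G A a := by group
      _ = iG G A g * iA G A a := by rw [h1]

/-- The fixed points of `A` on `G`, inside `G ⋊ A`. -/
theorem Gs_inf_centralizer :
    Gs G A ⊓ Subgroup.centralizer ((As G A : Subgroup (Gam G A)) : Set (Gam G A)) =
      (FixedPoints.subgroup A G).map (iG G A) := by
  ext x
  constructor
  · rintro ⟨⟨g, rfl⟩, hx⟩
    exact Subgroup.mem_map_of_mem _ ((iG_mem_centralizer_iff g).1 hx)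
  · rintro ⟨g, hg, rfl⟩
    exact ⟨⟨g, rfl⟩, (iG_mem_centralizer_iff g).2 hg⟩

/-- The commutator `[G, A]`, inside `G ⋊ A`. -/
theorem commutator_Gs_As :
    ⁅Gs G A, As G A⁆ =
      (Subgroup.closure {y : G | ∃ (a : A) (g : G), y = g⁻¹ * a • g}).map (iG G A) := by
  rw [MonoidHom.map_closure, Subgroup.commutator_def]
  congr 1
  ext z
  constructor
  · rintro ⟨x, ⟨g, rfl⟩, y, ⟨a, rfl⟩, rfl⟩
    refine ⟨g * a • g⁻¹, ⟨a, g⁻¹, by rw [inv_inv]⟩, ?_⟩
    rw [commutatorElement_def, map_mul, ← conj_iA_iG, map_inv]; group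
  · rintro ⟨y, ⟨a, g, rfl⟩, rfl⟩
    refine ⟨iG G A g⁻¹, ⟨g⁻¹, rfl⟩, iA G A a, ⟨a, rfl⟩, ?_⟩
    rw [commutatorElement_def, map_mul, ← conj_iA_iG, map_inv]; group

/-- `[G, A]` is normal in `G`. -/
theorem closure_normal_of_conj {H : Type*} [Group H] (S : Set H)
    (h : ∀ s ∈ S, ∀ x : H, x * s * x⁻¹ ∈ Subgroup.closure S) : (Subgroup.closure S).Normal := by
  constructor
  intro n hn x
  induction hn using Subgroup.closure_induction with
  | mem s hs => exact h s hs x
  | one => simp
  | mul a b _ _ iha ihb =>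
    have h1 := mul_mem iha ihb
    have e : x * a * x⁻¹ * (x * b * x⁻¹) = x * (a * b) * x⁻¹ := by group
    rw [e] at h1
    exact h1
  | inv a _ iha =>
    have h1 := inv_mem iha
    have e : (x * a * x⁻¹)⁻¹ = x * a⁻¹ * x⁻¹ := by group
    rw [e] at h1
    exact h1

theorem comm_normal :
    (Subgroup.closure {y : G | ∃ (a : A) (g : G), y = g⁻¹ * a • g}).Normal := by
  apply closure_normal_of_conj
  rintro s ⟨a, g, rfl⟩ x
  have e : x * (g⁻¹ * a • g) * x⁻¹ =
      ((g * x⁻¹)⁻¹ * a • (g * x⁻¹)) * ((x⁻¹)⁻¹ * a • x⁻¹)⁻¹ := by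
    rw [smul_mul']; group
  rw [e]
  exact Subgroup.mul_mem _ (Subgroup.subset_closure ⟨a, g * x⁻¹, rfl⟩)
    (Subgroup.inv_mem _ (Subgroup.subset_closure ⟨a, x⁻¹, rfl⟩))

/-- `[G, A]` is `A`-invariant. -/
theorem comm_invariant (a : A) (x : G)
    (hx : x ∈ Subgroup.closure {y : G | ∃ (a : A) (g : G), y = g⁻¹ * a • g}) :
    a • x ∈ Subgroup.closure {y : G | ∃ (a : A) (g : G), y = g⁻¹ * a • g} := by
  induction hx using Subgroup.closure_induction with
  | mem s hs =>
    obtain ⟨b, g, rfl⟩ := hs
    apply Subgroup.subset_closure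
    refine ⟨a * b * a⁻¹, a • g, ?_⟩
    rw [smul_mul', smul_inv', smul_smul, smul_smul, inv_mul_cancel_right]
  | one => rw [smul_one]; exact Subgroup.one_mem _
  | mul x y _ _ ihx ihy => rw [smul_mul']; exact Subgroup.mul_mem _ ihx ihy
  | inv x _ ihx => rw [smul_inv']; exact Subgroup.inv_mem _ ihx

theorem smul_mem_commutator (a : A) (d : G) (hd : d ∈ commutator G) : a • d ∈ commutator G := by
  have hchar : (commutator G).Characteristic := inferInstance
  have h := Subgroup.characteristic_iff_map_le.1 hchar (MulDistribMulAction.toMulEquiv G a)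
  exact h ⟨d, hd, rfl⟩

end Cfsg.Agent.Helper3.ActBridge
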