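import Mathlib
import Cfsg.Agent.Helper3.ActBridge
import Cfsg.Agent.S0023
import Cfsg.Agent.S0660

/-!
Helper library (helper3): more tools for actions by automorphisms (`MulDistribMulAction A G`):
invariant Sylow subgroups, the induced action on a quotient, and Maschke's theorem modulo an
invariant normal subgroup with elementary abelian quotient.
-/

set_option autoImplicit false

namespace Cfsg.Agent.Helper3.ActBridge

variable {G A : Type*} [Group G] [Group A] [MulDistribMulAction A G]

/-- Coprime action (one of the groups solvable): there is an invariant Sylow `p`-subgroup. -/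
theorem exists_invariant_sylow [Finite G] [Finite A]
    (hcop : (Nat.card A).Coprime (Nat.card G))
    (hsol : Group.IsSolvable A ∨ Group.IsSolvable G) (p : ℕ) [Fact p.Prime] :
    ∃ P : Subgroup G, Nat.card P = p ^ (Nat.card G).factorization p ∧
      ∀ a : A, ∀ x ∈ P, a • x ∈ P := by
  haveI : Finite (Gam G A) := finite_gam
  have hAG := As_le_normalizer_Gs (G := G) (A := A)
  have hcop' := coprime_As_Gs hcop
  have hsolv' : Group.IsSolvable (As G A) ∨ Group.IsSolvable (Gs G A) := by
    rcases hsol with h | h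
    · left; haveI := h; exact isSolvable_As
    · right; haveI := h; exact isSolvable_Gs
  obtain ⟨P, hAP⟩ := Cfsg.Agent.S0023.result (As G A) (Gs G A) hAG hcop' hsolv' p
  obtain ⟨Ps, hPs⟩ : ∃ Ps : Subgroup (Gam G A),
      Ps = (P : Subgroup (Gs G A)).map (Gs G A).subtype := ⟨_, rfl⟩
  rw [← hPs] at hAP
  have hPsG : Ps ≤ Gs G A := by rw [hPs]; exact Subgroup.map_subtype_le _
  have hPscard : Nat.card Ps = p ^ (Nat.card G).factorization p := by
    rw [hPs, Subgroup.card_map_of_injective (Subgroup.subtype_injective _),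
      P.card_eq_multiplicity, card_Gs]
  have hP₀map : (Ps.comap (iG G A)).map (iG G A) = Ps := by
    rw [Subgroup.map_comap_eq]; exact inf_eq_right.2 hPsG
  refine ⟨Ps.comap (iG G A), ?_, ?_⟩
  · have h : Nat.card ((Ps.comap (iG G A)).map (iG G A)) = Nat.card (Ps.comap (iG G A)) :=
      Subgroup.card_map_of_injective iG_injective
    rw [hP₀map, hPscard] at h
    exact h.symm
  · apply smul_mem_of_le_normalizer
    rw [hP₀map]; exact hAP

theorem le_comap_of_inv (N : Subgroup G) (hN : ∀ a : A, ∀ x ∈ N, a • x ∈ N) (a : A) :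
    N ≤ N.comap (MulDistribMulAction.toMonoidHom G a) := fun x hx => hN a x hx

/-- The action induced on the quotient by an invariant normal subgroup. -/
@[reducible] def quotAction (N : Subgroup G) [N.Normal] (hN : ∀ a : A, ∀ x ∈ N, a • x ∈ N) :
    MulDistribMulAction A (G ⧸ N) where
  smul a q := QuotientGroup.map N N (MulDistribMulAction.toMonoidHom G a)
    (le_comap_of_inv N hN a) q
  one_smul q := by
    induction q using QuotientGroup.induction_on with
    | H x =>
      show (((1 : A) • x : G) : G ⧸ N) = x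
      rw [one_smul]
  mul_smul a b q := by
    induction q using QuotientGroup.induction_on with
    | H x =>
      show (((a * b) • x : G) : G ⧸ N) = ((a • b • x : G) : G ⧸ N)
      rw [mul_smul]
  smul_mul a q r := map_mul _ q r
  smul_one a := map_one _

theorem quotAction_mk (N : Subgroup G) [N.Normal] (hN : ∀ a : A, ∀ x ∈ N, a • x ∈ N)
    (a : A) (x : G) :
    (quotAction N hN).smul a (x : G ⧸ N) = ((a • x : G) : G ⧸ N) := rfl

/-- In a finite abelian group of prime exponent every subgroup has a complement. -/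
theorem exists_compl_of_exp {V : Type*} [CommGroup V] [Finite V] (p : ℕ) (hp : p.Prime)
    (hexp : ∀ v : V, v ^ p = 1) (U : Subgroup V) :
    ∃ W : Subgroup V, U ⊓ W = ⊥ ∧ U ⊔ W = ⊤ := by
  haveI : Fact p.Prime := ⟨hp⟩
  obtain ⟨W, -, hmax⟩ := Finite.exists_le_maximal (p := fun W : Subgroup V => U ⊓ W = ⊥)
    (a := ⊥) (inf_bot_eq _)
  refine ⟨W, hmax.prop, ?_⟩
  rw [eq_top_iff]
  intro v _
  by_contra hv
  have hz1 : ∀ z ∈ Subgroup.zpowers v, z ∈ U ⊔ W → z = 1 := by
    intro z hz hzUW
    by_contra hne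
    have hov : orderOf v = p :=
      orderOf_eq_prime (hexp v) (fun h => hv (by rw [h]; exact Subgroup.one_mem _))
    have hoz : orderOf z = p := orderOf_eq_prime (hexp z) hne
    have hle : Subgroup.zpowers z ≤ Subgroup.zpowers v := Subgroup.zpowers_le.2 hz
    have heq : Subgroup.zpowers z = Subgroup.zpowers v :=
      Subgroup.eq_of_le_of_card_ge hle (by rw [Nat.card_zpowers, Nat.card_zpowers, hov, hoz])
    have hvz : v ∈ Subgroup.zpowers z := by rw [heq]; exact Subgroup.mem_zpowers v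
    exact hv ((Subgroup.zpowers_le.2 hzUW) hvz)
  have hlt : ¬ (U ⊓ (W ⊔ Subgroup.zpowers v) = ⊥) := by
    intro h
    have hle := hmax.le_of_ge h le_sup_left
    exact hv (Subgroup.mem_sup_right (hle (Subgroup.mem_sup_right (Subgroup.mem_zpowers v))))
  apply hlt
  rw [eq_bot_iff]
  rintro u ⟨huU, huW⟩
  rw [Subgroup.mem_bot]
  obtain ⟨w, hw, z, hz, rfl⟩ := Subgroup.mem_sup.1 huW
  have hzUW : z ∈ U ⊔ W := by
    have e : z = w⁻¹ * (w * z) := by group
    rw [e]
    exact Subgroup.mul_mem _ (Subgroup.mem_sup_right (W.inv_mem hw)) (Subgroup.mem_sup_left huU)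
  have hz' := hz1 z hz hzUW
  rw [hz', mul_one] at huU ⊢
  have h2 : w ∈ U ⊓ W := ⟨huU, hw⟩
  rw [hmax.prop, Subgroup.mem_bot] at h2
  exact h2

/-- Maschke's theorem modulo an invariant normal subgroup `N` with `G/N` elementary abelian:
every invariant subgroup `M ⊇ N` has an invariant complement modulo `N`. -/
theorem exists_invariant_compl_mod [Finite G] [Finite A]
    (hcop : (Nat.card A).Coprime (Nat.card G)) (p : ℕ) (hp : p.Prime)
    (N : Subgroup G) [N.Normal] (hN : ∀ a : A, ∀ x ∈ N, a • x ∈ N)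
    (hcomm : ∀ x y : G, x * y * x⁻¹ * y⁻¹ ∈ N) (hpow : ∀ x : G, x ^ p ∈ N)
    (M : Subgroup G) (hNM : N ≤ M) (hM : ∀ a : A, ∀ x ∈ M, a • x ∈ M) :
    ∃ W : Subgroup G, N ≤ W ∧ (∀ a : A, ∀ x ∈ W, a • x ∈ W) ∧ W ⊓ M = N ∧ W ⊔ M = ⊤ := by
  letI : CommGroup (G ⧸ N) := { (inferInstance : Group (G ⧸ N)) with
    mul_comm := by
      intro q r
      induction q using QuotientGroup.induction_on with
      | H x =>
        induction r using QuotientGroup.induction_on with
        | H y =>
          rw [← QuotientGroup.mk_mul, ← QuotientGroup.mk_mul, QuotientGroup.eq]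
          have e : (x * y)⁻¹ * (y * x) = y⁻¹ * x⁻¹ * y⁻¹⁻¹ * x⁻¹⁻¹ := by group
          rw [e]
          exact hcomm y⁻¹ x⁻¹ }
  letI : MulDistribMulAction A (G ⧸ N) := quotAction N hN
  obtain ⟨f, hf⟩ : ∃ f : G →* G ⧸ N, f = QuotientGroup.mk' N := ⟨_, rfl⟩
  have hfs : Function.Surjective f := by rw [hf]; exact QuotientGroup.mk'_surjective N
  have hker : f.ker = N := by rw [hf]; exact QuotientGroup.ker_mk' N
  have hsm : ∀ (a : A) (x : G), a • f x = f (a • x) := by
    intro a x; rw [hf]; rfl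
  have hcop' : (Nat.card A).Coprime (Nat.card (G ⧸ N)) :=
    Nat.Coprime.coprime_dvd_right (Subgroup.card_quotient_dvd_card N) hcop
  have hone : ∀ x : G, x ∈ N → f x = 1 := by
    intro x hx
    have h0 : x ∈ f.ker := by rw [hker]; exact hx
    exact h0
  have hexp : ∀ v : G ⧸ N, v ^ p = 1 := by
    intro v
    obtain ⟨x, rfl⟩ := hfs v
    rw [← map_pow]
    exact hone _ (hpow x)
  have hUinv : ∀ (a : A) (u : G ⧸ N), u ∈ M.map f → a • u ∈ M.map f := by
    rintro a u ⟨x, hx, rfl⟩
    rw [hsm]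
    exact Subgroup.mem_map_of_mem f (hM a x hx)
  obtain ⟨W₀, hW₀1, hW₀2⟩ := exists_compl_of_exp p hp hexp (M.map f)
  obtain ⟨W', hW'inv, hW'1, hW'2⟩ :=
    Cfsg.Agent.S0660.maschke hcop' (M.map f) W₀ hUinv hW₀1 hW₀2
  refine ⟨W'.comap f, ?_, ?_, ?_, ?_⟩
  · intro x hx
    show f x ∈ W'
    rw [hone x hx]; exact W'.one_mem
  · intro a x hx
    show f (a • x) ∈ W'
    rw [← hsm]; exact hW'inv a _ hx
  · apply le_antisymm
    · rintro x ⟨hxW, hxM⟩
      have h1 : f x ∈ M.map f ⊓ W' := ⟨Subgroup.mem_map_of_mem f hxM, hxW⟩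
      rw [hW'1, Subgroup.mem_bot] at h1
      rw [← hker]; exact h1
    · intro x hx
      refine ⟨?_, hNM hx⟩
      show f x ∈ W'
      rw [hone x hx]; exact W'.one_mem
  · rw [eq_top_iff]
    intro x _
    have h1 : f x ∈ M.map f ⊔ W' := by rw [hW'2]; trivial
    obtain ⟨u, ⟨m, hm, rfl⟩, w, hw, huw⟩ := Subgroup.mem_sup.1 h1
    have hw' : m⁻¹ * x ∈ W'.comap f := by
      show f (m⁻¹ * x) ∈ W'
      rw [map_mul, map_inv, ← huw, inv_mul_cancel_left]; exact hw
    have e : x = m * (m⁻¹ * x) := by group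
    rw [e]
    exact Subgroup.mul_mem _ (Subgroup.mem_sup_right hm) (Subgroup.mem_sup_left hw')

end Cfsg.Agent.Helper3.ActBridge
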