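import Cfsg.Agent.Helper3.SysNorm2
import Cfsg.Agent.Helper3.Subnormal
import Cfsg.Agent.S0003
import Cfsg.Agent.S0004

set_option autoImplicit false
open Cfsg
open scoped Pointwise

/-!
Helper library (helper3): Carter subgroups of finite solvable groups are conjugate.
-/

namespace Cfsg.Agent.Helper3

universe u

theorem carter_eq_top_of_nilpotent {G : Type u} [Group G] [Group.IsNilpotent G] (C : Subgroup G)
    (hC : Cfsg.IsCarterSubgroup C) : C = ⊤ :=
  (normalizerCondition_iff_only_full_group_self_normalizing.mp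
    Group.normalizerCondition_of_isNilpotent) C hC.2

theorem normalizer_conj_smul {G : Type u} [Group G] (g : G) (H : Subgroup G) :
    Subgroup.normalizer ((MulAut.conj g • H : Subgroup G) : Set G)
      = MulAut.conj g • Subgroup.normalizer (H : Set G) :=
  (Subgroup.map_normalizer_eq_of_bijective H (f := (MulAut.conj g).toMonoidHom)
    (MulAut.conj g).bijective).symm

theorem isCarter_conj {G : Type u} [Group G] (C : Subgroup G) (hC : Cfsg.IsCarterSubgroup C)
    (g : G) : Cfsg.IsCarterSubgroup (MulAut.conj g • C) := by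
  refine ⟨?_, ?_⟩
  · haveI := hC.1
    exact Group.nilpotent_of_mulEquiv (Subgroup.equivSMul (MulAut.conj g) C)
  · rw [normalizer_conj_smul, hC.2]

theorem carter_subgroupOf {G : Type u} [Group G] (C H : Subgroup G) (h : C ≤ H)
    (hC : Cfsg.IsCarterSubgroup C) : Cfsg.IsCarterSubgroup (C.subgroupOf H) := by
  refine ⟨?_, ?_⟩
  · haveI := hC.1
    exact Group.nilpotent_of_mulEquiv (Subgroup.subgroupOfEquivOfLe h).symm
  · rw [← Subgroup.subgroupOf_normalizer_eq h, hC.2]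

theorem carter_conj_in {G : Type u} [Group G] (H : Subgroup G)
    (IH : ∀ C₁ C₂ : Subgroup ↥H, Cfsg.IsCarterSubgroup C₁ → Cfsg.IsCarterSubgroup C₂ →
      ∃ h : ↥H, MulAut.conj h • C₁ = C₂)
    (C₁ C₂ : Subgroup G) (h₁ : C₁ ≤ H) (h₂ : C₂ ≤ H) (hc₁ : Cfsg.IsCarterSubgroup C₁)
    (hc₂ : Cfsg.IsCarterSubgroup C₂) : ∃ h ∈ H, MulAut.conj h • C₁ = C₂ := by
  obtain ⟨h, hh⟩ := IH _ _ (carter_subgroupOf C₁ H h₁ hc₁) (carter_subgroupOf C₂ H h₂ hc₂)
  refine ⟨h, h.2, ?_⟩
  have := congrArg (Subgroup.map H.subtype) hh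
  rw [map_conj_smul, Subgroup.subgroupOf_map_subtype, Subgroup.subgroupOf_map_subtype,
    inf_of_le_left h₁, inf_of_le_left h₂] at this
  exact this

theorem mem_of_pow_mem_of_coprime {G : Type u} [Group G] (H : Subgroup G) (y : G) {m r : ℕ}
    (h1 : y ^ m = 1) (h2 : y ^ r ∈ H) (hc : m.Coprime r) : y ∈ H := by
  have h := Nat.Coprime.gcd_eq_one hc
  have hz : y ^ ((m : ℤ) * Nat.gcdA m r + (r : ℤ) * Nat.gcdB m r) = y := by
    rw [← Nat.gcd_eq_gcd_ab, h]; simp
  rw [← hz, zpow_add, zpow_mul, zpow_mul, zpow_natCast, zpow_natCast, h1, one_zpow, one_mul]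
  exact H.zpow_mem h2 _

/-- a Hall subgroup of a finite nilpotent group is normal -/
theorem hall_normal_of_nilpotent {Q : Type u} [Group Q] [Finite Q] [Group.IsNilpotent Q]
    (H : Subgroup Q) (h : (Nat.card H).Coprime H.index) : H.Normal := by
  rw [← Subgroup.normalizer_eq_top_iff]
  apply (normalizerCondition_iff_only_full_group_self_normalizing.mp
    Group.normalizerCondition_of_isNilpotent)
  apply le_antisymm _ Subgroup.le_normalizer
  intro g hg
  apply Cfsg.Agent.S0540.mem_normalizer_of_smul_le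
  intro y hy
  obtain ⟨x, hx, rfl⟩ := (Subgroup.mem_smul_pointwise_iff_exists _ _ _).mp hy
  have hyN : MulAut.conj g • x ∈ Subgroup.normalizer (H : Set Q) := by
    rw [MulAut.smul_def, MulAut.conj_apply]
    exact (Subgroup.mem_normalizer_iff.mp hg x).mp (Subgroup.le_normalizer hx)
  have hpow : (MulAut.conj g • x) ^ Nat.card H = 1 := by
    rw [MulAut.smul_def, ← map_pow]
    have h1 : x ^ Nat.card H = 1 := by
      have := pow_card_eq_one' (G := H) (x := ⟨x, hx⟩)
      exact congrArg Subtype.val this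
    rw [h1, map_one]
  haveI : (H.subgroupOf (Subgroup.normalizer (H : Set Q))).Normal := Subgroup.normal_in_normalizer
  have hr : (MulAut.conj g • x) ^ (H.relIndex (Subgroup.normalizer (H : Set Q))) ∈ H := by
    have := Subgroup.pow_index_mem (H.subgroupOf (Subgroup.normalizer (H : Set Q)))
      ⟨_, hyN⟩
    exact Subgroup.mem_subgroupOf.mp this
  have hcop : (Nat.card H).Coprime (H.relIndex (Subgroup.normalizer (H : Set Q))) :=
    Nat.Coprime.coprime_dvd_right (Subgroup.relIndex_dvd_index_of_le Subgroup.le_normalizer) h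
  exact mem_of_pow_mem_of_coprime H _ hpow hr hcop

theorem exists_normal_hall_of_nilpotent {G : Type u} [Group G] [Finite G] (C : Subgroup G)
    (hC : Group.IsNilpotent C) (m n : ℕ) (hcard : Nat.card C = m * n) (hmn : m.Coprime n) :
    ∃ Q : Subgroup G, Q ≤ C ∧ Nat.card Q = m ∧ C ≤ Subgroup.normalizer (Q : Set G) := by
  haveI := hC
  obtain ⟨Q', hQ'⟩ := Cfsg.Agent.S0003.result (G := ↥C) m n hcard hmn
  have hm : 0 < m := Nat.pos_of_ne_zero (fun h => by
    rw [h, zero_mul] at hcard; exact Nat.card_pos.ne' hcard)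
  have hidx : Q'.index = n := by
    have := Subgroup.card_mul_index Q'
    rw [hQ', hcard] at this
    exact Nat.eq_of_mul_eq_mul_left hm this
  haveI hQn : Q'.Normal := hall_normal_of_nilpotent Q' (by rw [hQ', hidx]; exact hmn)
  refine ⟨Q'.map C.subtype, Subgroup.map_subtype_le _, ?_, ?_⟩
  · rw [Subgroup.card_map_of_injective C.subtype_injective, hQ']
  · intro c hc
    apply Cfsg.Agent.S0540.mem_normalizer_of_smul_le
    intro y hy
    obtain ⟨x, ⟨q, hq, rfl⟩, rfl⟩ := (Subgroup.mem_smul_pointwise_iff_exists _ _ _).mp hy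
    refine ⟨⟨c, hc⟩ * q * ⟨c, hc⟩⁻¹, hQn.conj_mem q hq _, ?_⟩
    simp [MulAut.smul_def, MulAut.conj_apply]

theorem carter_compl {G : Type u} [Group G] (N C : Subgroup G) [hNn : N.Normal]
    (hNcomm : ∀ a ∈ N, ∀ b ∈ N, a * b = b * a)
    (hNmin : ∀ M : Subgroup G, M.Normal → M ≤ N → M = ⊥ ∨ M = N)
    (hCN : C ⊔ N = ⊤) (hNC : ¬ N ≤ C) : C ⊓ N = ⊥ := by
  have hnorm : (C ⊓ N).Normal := by
    rw [← Subgroup.normalizer_eq_top_iff, eq_top_iff, ← hCN]
    apply sup_le
    · intro c hc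
      rw [Subgroup.mem_normalizer_iff]
      intro x
      constructor
      · intro hx
        obtain ⟨hxC, hxN⟩ := Subgroup.mem_inf.mp hx
        exact Subgroup.mem_inf.mpr
          ⟨C.mul_mem (C.mul_mem hc hxC) (C.inv_mem hc), hNn.conj_mem x hxN c⟩
      · intro hx
        obtain ⟨hxC, hxN⟩ := Subgroup.mem_inf.mp hx
        refine Subgroup.mem_inf.mpr ⟨?_, ?_⟩
        · have : x = c⁻¹ * (c * x * c⁻¹) * c := by group
          rw [this]; exact C.mul_mem (C.mul_mem (C.inv_mem hc) hxC) hc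
        · have : x = c⁻¹ * (c * x * c⁻¹) * c⁻¹⁻¹ := by group
          rw [this]; exact hNn.conj_mem _ hxN c⁻¹
    · intro m hm
      rw [Subgroup.mem_normalizer_iff]
      intro x
      constructor
      · intro hx
        obtain ⟨hxC, hxN⟩ := Subgroup.mem_inf.mp hx
        have : m * x * m⁻¹ = x := by rw [hNcomm m hm x hxN, mul_inv_cancel_right]
        rw [this]; exact hx
      · intro hx
        obtain ⟨hxC, hxN⟩ := Subgroup.mem_inf.mp hx
        have hxN' : x ∈ N := by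
          have : x = m⁻¹ * (m * x * m⁻¹) * m := by group
          rw [this]; exact N.mul_mem (N.mul_mem (N.inv_mem hm) hxN) hm
        have : m * x * m⁻¹ = x := by rw [hNcomm m hm x hxN', mul_inv_cancel_right]
        rw [this] at hx; exact hx
  rcases hNmin _ hnorm inf_le_right with h | h
  · exact h
  · exact absurd (inf_eq_right.mp h) hNC

theorem comm_of_isMulCommutative {G : Type u} [Group G] (N : Subgroup G)
    (h : IsMulCommutative N) : ∀ a ∈ N, ∀ b ∈ N, a * b = b * a := by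
  intro a ha b hb
  have := h.is_comm.comm ⟨a, ha⟩ ⟨b, hb⟩
  exact congrArg Subtype.val this

theorem card_lt_of_ne_top {G : Type u} [Group G] [Finite G] (H : Subgroup G) (h : H ≠ ⊤) :
    Nat.card H < Nat.card G :=
  lt_of_le_of_ne (Subgroup.card_le_card_group H) (fun e => h ((Subgroup.card_eq_iff_eq_top H).mp e))

theorem map_mk_sup_eq {G : Type u} [Group G] (N C : Subgroup G) [N.Normal] :
    (C ⊔ N).map (QuotientGroup.mk' N) = C.map (QuotientGroup.mk' N) := by
  rw [Subgroup.map_sup, (Subgroup.map_eq_bot_iff N).mpr (by rw [QuotientGroup.ker_mk']),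
    sup_bot_eq]

/-- image of a Carter subgroup in a quotient, given conjugacy in proper subgroups -/
theorem carter_map_aux {G : Type u} [Group G] [Finite G]
    (ihS : ∀ H : Subgroup G, H ≠ ⊤ → ∀ D₁ D₂ : Subgroup G, D₁ ≤ H → D₂ ≤ H →
      Cfsg.IsCarterSubgroup D₁ → Cfsg.IsCarterSubgroup D₂ → ∃ h ∈ H, MulAut.conj h • D₁ = D₂)
    (N : Subgroup G) [N.Normal] (C : Subgroup G) (hC : Cfsg.IsCarterSubgroup C) :
    Cfsg.IsCarterSubgroup (C.map (QuotientGroup.mk' N)) := by
  refine ⟨?_, ?_⟩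
  · haveI := hC.1
    exact Group.nilpotent_of_surjective ((QuotientGroup.mk' N).subgroupMap C)
      ((QuotientGroup.mk' N).subgroupMap_surjective C)
  apply le_antisymm _ Subgroup.le_normalizer
  intro y hy
  obtain ⟨x, rfl⟩ := QuotientGroup.mk'_surjective N y
  by_cases hT : C ⊔ N = ⊤
  · have : C.map (QuotientGroup.mk' N) = ⊤ := by
      rw [← map_mk_sup_eq, hT, Subgroup.map_top_of_surjective _ (QuotientGroup.mk'_surjective N)]
    rw [this]; trivial
  · have hxN : MulAut.conj x • (C ⊔ N) = C ⊔ N := by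
      have h1 : x ∈ (Subgroup.normalizer
          ((C.map (QuotientGroup.mk' N) : Subgroup (G ⧸ N)) : Set (G ⧸ N))).comap
          (QuotientGroup.mk' N) := hy
      rw [Subgroup.comap_normalizer_eq_of_surjective _ (QuotientGroup.mk'_surjective N),
        Subgroup.comap_map_eq, QuotientGroup.ker_mk'] at h1
      exact smul_eq_of_mem_normalizer h1
    have hle : MulAut.conj x • C ≤ C ⊔ N := by
      rw [← hxN]; exact Subgroup.pointwise_smul_le_pointwise_smul_iff.mpr le_sup_left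
    obtain ⟨h, hh, hconj⟩ := ihS (C ⊔ N) hT C (MulAut.conj x • C) le_sup_left hle hC
      (isCarter_conj C hC x)
    have hmem : h⁻¹ * x ∈ C := by
      rw [← hC.2]
      apply Cfsg.Agent.S0540.mem_normalizer_of_smul_le
      rw [map_mul, mul_smul, ← hconj, smul_smul, ← map_mul, inv_mul_cancel, map_one, one_smul]
    have hx : x ∈ C ⊔ N := by
      have : x = h * (h⁻¹ * x) := by group
      rw [this]; exact mul_mem hh (Subgroup.mem_sup_left hmem)
    have : QuotientGroup.mk' N x ∈ (C ⊔ N).map (QuotientGroup.mk' N) :=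
      Subgroup.mem_map_of_mem _ hx
    rwa [map_mk_sup_eq] at this

theorem carter_conj_aux : ∀ (n : ℕ) (G : Type u) [Group G] [Finite G] [Group.IsSolvable G],
    Nat.card G = n → ∀ C₁ C₂ : Subgroup G, Cfsg.IsCarterSubgroup C₁ → Cfsg.IsCarterSubgroup C₂ →
      ∃ g : G, MulAut.conj g • C₁ = C₂ := by
  intro n
  induction n using Nat.strong_induction_on with
  | _ n ih =>
  intro G _ _ _ hn C₁ C₂ h₁ h₂
  have ihS : ∀ H : Subgroup G, H ≠ ⊤ → ∀ D₁ D₂ : Subgroup G, D₁ ≤ H → D₂ ≤ H →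
      Cfsg.IsCarterSubgroup D₁ → Cfsg.IsCarterSubgroup D₂ →
      ∃ h ∈ H, MulAut.conj h • D₁ = D₂ := by
    intro H hH D₁ D₂ hD₁ hD₂ k₁ k₂
    have hlt : Nat.card H < n := by rw [← hn]; exact card_lt_of_ne_top H hH
    exact carter_conj_in H (ih _ hlt ↥H rfl) D₁ D₂ hD₁ hD₂ k₁ k₂
  have stepQ : ∀ (N : Subgroup G) [N.Normal], N ≠ ⊥ → ∀ D₁ D₂ : Subgroup G,
      Cfsg.IsCarterSubgroup D₁ → Cfsg.IsCarterSubgroup D₂ →
      ∃ g : G, (MulAut.conj g • D₁) ⊔ N = D₂ ⊔ N := by
    intro N _ hN D₁ D₂ k₁ k₂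
    have hlt : Nat.card (G ⧸ N) < n := by rw [← hn]; exact card_quot_lt_of_ne_bot N hN
    obtain ⟨gb, hgb⟩ := ih _ hlt (G ⧸ N) rfl _ _ (carter_map_aux ihS N D₁ k₁)
      (carter_map_aux ihS N D₂ k₂)
    obtain ⟨g, rfl⟩ := QuotientGroup.mk'_surjective N gb
    refine ⟨g, ?_⟩
    rw [← map_conj_smul] at hgb
    have := congrArg (Subgroup.comap (QuotientGroup.mk' N)) hgb
    rwa [Subgroup.comap_map_eq, Subgroup.comap_map_eq, QuotientGroup.ker_mk'] at this
  rcases subsingleton_or_nontrivial G with hs | hnt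
  · exact ⟨1, Subsingleton.elim _ _⟩
  obtain ⟨N, hNn, hNne, hNmin⟩ := Cfsg.Agent.Helper1.exists_minimal_normal (G := G)
  haveI := hNn
  obtain ⟨hNcomm, p, hp, hexp⟩ := Cfsg.Agent.S0043.result N hNne hNmin
  haveI : Fact p.Prime := ⟨hp⟩
  have hNp : IsPGroup p N := isPGroup_of_exp N p hexp
  obtain ⟨g, hg⟩ := stepQ N hNne C₁ C₂ h₁ h₂
  suffices H : ∃ g' : G, MulAut.conj g' • (MulAut.conj g • C₁) = C₂ by
    obtain ⟨g', hg'⟩ := H
    exact ⟨g' * g, by rw [map_mul, mul_smul]; exact hg'⟩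
  have h₁' := isCarter_conj C₁ h₁ g
  generalize MulAut.conj g • C₁ = C₁' at hg h₁' ⊢
  by_cases hT : C₂ ⊔ N = ⊤
  swap
  · obtain ⟨h, -, hh⟩ := ihS (C₂ ⊔ N) hT C₁' C₂ (hg ▸ le_sup_left) le_sup_left h₁' h₂
    exact ⟨h, hh⟩
  have hT' : C₁' ⊔ N = ⊤ := hg.trans hT
  have caseN : ∀ C : Subgroup G, Cfsg.IsCarterSubgroup C → C ⊔ N = ⊤ → N ≤ C →
      ∀ C' : Subgroup G, Cfsg.IsCarterSubgroup C' → C' = C := by
    intro C hC hCN hNC C' hC'
    have hCtop : C = ⊤ := by rw [← hCN]; exact (sup_eq_left.mpr hNC).symm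
    haveI : Group.IsNilpotent G := by
      have h1 := hC.1
      rw [hCtop] at h1
      haveI := h1
      exact Group.nilpotent_of_mulEquiv (Subgroup.topEquiv (G := G))
    rw [hCtop]
    exact carter_eq_top_of_nilpotent C' hC'
  by_cases hN1 : N ≤ C₁'
  · exact ⟨1, by rw [map_one, one_smul]; exact (caseN C₁' h₁' hT' hN1 C₂ h₂).symm⟩
  by_cases hN2 : N ≤ C₂
  · exact ⟨1, by rw [map_one, one_smul]; exact (caseN C₂ h₂ hT hN2 C₁' h₁')⟩
  have hcommN := comm_of_isMulCommutative N hNcomm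
  have c₁ := carter_compl N C₁' hcommN hNmin hT' hN1
  have c₂ := carter_compl N C₂ hcommN hNmin hT hN2
  have cardC : ∀ C : Subgroup G, C ⊔ N = ⊤ → C ⊓ N = ⊥ →
      Nat.card C * Nat.card N = Nat.card G := by
    intro C h1 h2
    have := card_mul_card_eq_of_le_normalizer C N
      (by rw [Subgroup.normalizer_eq_top]; exact le_top)
    rw [h1, h2, Subgroup.card_bot, mul_one, Subgroup.card_top] at this
    exact this
  obtain ⟨k, hk⟩ := IsPGroup.iff_card.mp hNp
  have e₁ := cardC C₁' hT' c₁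
  have e₂ := cardC C₂ hT c₂
  have hcard12 : Nat.card C₁' = Nat.card C₂ :=
    Nat.eq_of_mul_eq_mul_right Nat.card_pos (e₁.trans e₂.symm)
  have hC2ne : Nat.card C₂ ≠ 0 := Nat.card_pos.ne'
  have hsplit : Nat.card C₂ = (Nat.card C₂ / p ^ (Nat.card C₂).factorization p)
      * p ^ (Nat.card C₂).factorization p :=
    (Nat.div_mul_cancel (Nat.ordProj_dvd _ _)).symm
  have hcopm : (Nat.card C₂ / p ^ (Nat.card C₂).factorization p).Coprime p :=
    (Nat.coprime_ordCompl hp hC2ne).symm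
  obtain ⟨Q₁, hQ₁C, hQ₁card, hQ₁N⟩ := exists_normal_hall_of_nilpotent C₁' h₁'.1 _ _
    (hcard12.trans hsplit) (Nat.Coprime.pow_right _ hcopm)
  obtain ⟨Q₂, hQ₂C, hQ₂card, hQ₂N⟩ := exists_normal_hall_of_nilpotent C₂ h₂.1 _ _
    hsplit (Nat.Coprime.pow_right _ hcopm)
  have hGsplit : Nat.card G = (Nat.card C₂ / p ^ (Nat.card C₂).factorization p)
      * (p ^ (Nat.card C₂).factorization p * p ^ k) := by
    rw [← e₂, hk, ← mul_assoc, ← hsplit]
  have hcop2 : (Nat.card C₂ / p ^ (Nat.card C₂).factorization p).Coprime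
      (p ^ (Nat.card C₂).factorization p * p ^ k) :=
    Nat.Coprime.mul_right (Nat.Coprime.pow_right _ hcopm) (Nat.Coprime.pow_right _ hcopm)
  obtain ⟨a, ha⟩ := Cfsg.Agent.S0004.result _ _ hGsplit hcop2 Q₁ Q₂ hQ₁card hQ₂card
  suffices H : ∃ g' : G, MulAut.conj g' • (MulAut.conj a • C₁') = C₂ by
    obtain ⟨g', hg'⟩ := H
    exact ⟨g' * a, by rw [map_mul, mul_smul]; exact hg'⟩
  have h₁'' := isCarter_conj C₁' h₁' a
  have hQC'' : Q₂ ≤ MulAut.conj a • C₁' := by
    rw [← ha]; exact Subgroup.pointwise_smul_le_pointwise_smul_iff.mpr hQ₁C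
  have hQN'' : MulAut.conj a • C₁' ≤ Subgroup.normalizer (Q₂ : Set G) := by
    rw [← ha, normalizer_conj_smul]
    exact Subgroup.pointwise_smul_le_pointwise_smul_iff.mpr hQ₁N
  generalize MulAut.conj a • C₁' = C₁'' at h₁'' hQC'' hQN'' ⊢
  by_cases hNQ : Subgroup.normalizer (Q₂ : Set G) = ⊤
  swap
  · obtain ⟨h, -, hh⟩ := ihS _ hNQ C₁'' C₂ hQN'' hQ₂N h₁'' h₂
    exact ⟨h, hh⟩
  haveI hQ₂n : Q₂.Normal := Subgroup.normalizer_eq_top_iff.mp hNQ
  by_cases hQbot : Q₂ = ⊥
  · exfalso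
    have hm1 : Nat.card C₂ / p ^ (Nat.card C₂).factorization p = 1 := by
      rw [← hQ₂card, hQbot, Subgroup.card_bot]
    rw [hm1, one_mul, ← pow_add] at hGsplit
    haveI : Group.IsNilpotent G := (IsPGroup.of_card hGsplit).isNilpotent
    have := carter_eq_top_of_nilpotent C₂ h₂
    exact hN2 (this ▸ le_top)
  · obtain ⟨g', hg'⟩ := stepQ Q₂ hQbot C₁'' C₂ h₁'' h₂
    refine ⟨g', ?_⟩
    have h1 : Q₂ ≤ MulAut.conj g' • C₁'' := by
      have : MulAut.conj g' • Q₂ ≤ MulAut.conj g' • C₁'' :=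
        Subgroup.pointwise_smul_le_pointwise_smul_iff.mpr hQC''
      rwa [Subgroup.Normal.conj_smul_eq_self g' Q₂] at this
    rw [sup_eq_left.mpr h1, sup_eq_left.mpr hQ₂C] at hg'
    exact hg'

/-- Carter subgroups of a finite solvable group are conjugate -/
theorem carter_conj {G : Type u} [Group G] [Finite G] [Group.IsSolvable G]
    (C₁ C₂ : Subgroup G) (h₁ : Cfsg.IsCarterSubgroup C₁) (h₂ : Cfsg.IsCarterSubgroup C₂) :
    ∃ g : G, MulAut.conj g • C₁ = C₂ :=
  carter_conj_aux _ G rfl C₁ C₂ h₁ h₂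

/-- the image of a Carter subgroup of a finite solvable group in a quotient is a Carter
subgroup -/
theorem carter_map {G : Type u} [Group G] [Finite G] [Group.IsSolvable G]
    (N : Subgroup G) [N.Normal] (C : Subgroup G) (hC : Cfsg.IsCarterSubgroup C) :
    Cfsg.IsCarterSubgroup (C.map (QuotientGroup.mk' N)) := by
  apply carter_map_aux _ N C hC
  intro H _ D₁ D₂ hD₁ hD₂ k₁ k₂
  exact carter_conj_in H (fun A B hA hB => carter_conj A B hA hB) D₁ D₂ hD₁ hD₂ k₁ k₂

end Cfsg.Agent.Helper3
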