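import Mathlib

set_option autoImplicit false

namespace Cfsg.Agent.Helper3.O504E1

variable {G : Type*} [Group G] [Finite G] [IsSimpleGroup G]

open scoped IsMulCommutative in
theorem no_central_elt (h : Nat.card G = 504) (T : Sylow 2 G)
    (hab : ∀ a ∈ (T : Subgroup G), ∀ b ∈ (T : Subgroup G), a * b = b * a) (a : G)
    (haT : a ∈ (T : Subgroup G)) (ha1 : a ≠ 1)
    (hcen : ∀ n ∈ Subgroup.normalizer ((T : Subgroup G) : Set G), n * a = a * n) : False := by
  have : Fact (Nat.Prime 2) := ⟨Nat.prime_two⟩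
  have hcomm : IsMulCommutative ↥(T : Subgroup G) :=
    ⟨⟨fun x y => Subtype.ext (hab x x.2 y y.2)⟩⟩
  -- the key fusion statement
  have key : ∀ (k : ℕ) (g₀ : G), g₀⁻¹ * a ^ k * g₀ ∈ (T : Subgroup G) →
      g₀⁻¹ * a ^ k * g₀ = a ^ k := by
    intro k g₀ hk
    have hak : a ^ k ∈ (T : Subgroup G) := (T : Subgroup G).pow_mem haT k
    obtain ⟨n, hn, hn2⟩ := T.conj_eq_normalizer_conj_of_mem (a ^ k) g₀ hak hk
    rw [hn2]
    have hc : n * a = a * n := hcen n hn
    have hc2 : Commute n (a ^ k) := (show Commute n a from hc).pow_right k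
    rw [mul_assoc, ← hc2.eq, ← mul_assoc, inv_mul_cancel, one_mul]
  -- the transfer
  set V : G →* ↥(T : Subgroup G) :=
    MonoidHom.transfer (MonoidHom.id ↥(T : Subgroup G)) with hV
  have hVa : V a = ⟨a ^ (T : Subgroup G).index, MonoidHom.transfer_eq_pow_aux a key⟩ :=
    MonoidHom.transfer_eq_pow (MonoidHom.id ↥(T : Subgroup G)) a key
  -- a ^ index ≠ 1
  have hidx : ¬ 2 ∣ (T : Subgroup G).index := T.not_dvd_index
  have hane : a ^ (T : Subgroup G).index ≠ 1 := by
    intro h1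
    obtain ⟨k, hk⟩ := T.2 ⟨a, haT⟩
    have hk' : a ^ (2 ^ k) = 1 := by
      have := congrArg (Subtype.val) hk
      simpa using this
    have d1 : orderOf a ∣ 2 ^ k := orderOf_dvd_of_pow_eq_one hk'
    have d2 : orderOf a ∣ (T : Subgroup G).index := orderOf_dvd_of_pow_eq_one h1
    have hcop : Nat.Coprime (2 ^ k) (T : Subgroup G).index :=
      Nat.Coprime.pow_left k ((Nat.Prime.coprime_iff_not_dvd Nat.prime_two).2 hidx)
    have d3 : orderOf a ∣ 1 := by
      have := Nat.dvd_gcd d1 d2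
      rwa [hcop] at this
    exact ha1 (orderOf_eq_one_iff.1 (Nat.dvd_one.1 d3))
  have hVa1 : V a ≠ 1 := by
    intro h1
    rw [hVa] at h1
    exact hane (congrArg Subtype.val h1)
  -- the kernel
  have hker : V.ker = ⊥ := by
    rcases (MonoidHom.normal_ker V).eq_bot_or_eq_top with hb | ht
    · exact hb
    · exfalso
      have : a ∈ V.ker := by rw [ht]; exact Subgroup.mem_top a
      exact hVa1 (MonoidHom.mem_ker.1 this)
  have hinj : Function.Injective V := (MonoidHom.ker_eq_bot_iff V).1 hker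
  have hp : IsPGroup 2 G := by
    intro g
    obtain ⟨k, hk⟩ := T.2 (V g)
    refine ⟨k, hinj ?_⟩
    rw [map_pow, hk, map_one]
  obtain ⟨n, hn⟩ := IsPGroup.iff_card.1 hp
  rw [h] at hn
  have h7 : 7 ∣ 2 ^ n := by rw [← hn]; norm_num
  have h72 : 7 ∣ 2 := Nat.Prime.dvd_of_dvd_pow (by norm_num) h7
  omega

end Cfsg.Agent.Helper3.O504E1
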