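import Mathlib
import Cfsg.Prelude.Def_Local
import Cfsg.Agent.Helper23.PSolv
import Cfsg.Agent.Lead.Coprime
import Cfsg.Agent.Helper3.Subnormal
import Cfsg.Agent.Helper3.PiClosed

/-!
Helper library (helper3): `p`-solvable groups in which every maximal subgroup has a normal
`p`-complement or prime index have `p`-length at most 2 (chain form).
-/

set_option autoImplicit false

namespace Cfsg.Agent.Helper3.PLenMax

universe u

/-- every maximal subgroup has a normal `p`-complement or prime index -/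
def HMax (p : ℕ) (G : Type u) [Group G] : Prop :=
  ∀ M : Subgroup G, IsCoatom M →
    (∃ K : Subgroup ↥M, K.Normal ∧ ¬ p ∣ Nat.card K ∧ ∃ k : ℕ, K.index = p ^ k) ∨ (M.index).Prime

/-- a normal chain `A ≤ B ≤ C ≤ D` with factors `p'`, `p`, `p'`, `p`, `p'` (and `D = ⊤` when `p = 2`) -/
def Chain (p : ℕ) (G : Type u) [Group G] : Prop :=
  ∃ A B C D : Subgroup G, A.Normal ∧ B.Normal ∧ C.Normal ∧ D.Normal ∧ A ≤ B ∧ B ≤ C ∧ C ≤ D ∧
    ¬ p ∣ Nat.card A ∧ (∃ k : ℕ, A.relIndex B = p ^ k) ∧ ¬ p ∣ B.relIndex C ∧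
    (∃ k : ℕ, C.relIndex D = p ^ k) ∧ ¬ p ∣ D.index ∧ (p = 2 → D = ⊤)

theorem card_eq_mul_relIndex {G : Type u} [Group G] {H K : Subgroup G} (h : H ≤ K) :
    Nat.card K = Nat.card H * H.relIndex K := by
  have h1 := (H.subgroupOf K).card_mul_index
  rw [Nat.card_congr (Subgroup.subgroupOfEquivOfLe h).toEquiv] at h1
  exact h1.symm

theorem card_sup_eq {G : Type u} [Group G] [Finite G] (H K : Subgroup G) [K.Normal]
    (h : H ⊓ K = ⊥) : Nat.card ↥(H ⊔ K) = Nat.card H * Nat.card K := by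
  have h1 : Nat.card ↥(K.subgroupOf (H ⊔ K)) * (K.subgroupOf (H ⊔ K)).index = Nat.card ↥(H ⊔ K) :=
    Subgroup.card_mul_index _
  have h2 : Nat.card ↥(K.subgroupOf (H ⊔ K)) = Nat.card K :=
    Nat.card_congr (Subgroup.subgroupOfEquivOfLe le_sup_right).toEquiv
  have h3 : (K.subgroupOf (H ⊔ K)).index = K.relIndex H := Subgroup.relIndex_sup_right H K
  have h4 : K.relIndex H = Nat.card H := by
    have h5 : K.subgroupOf H = ⊥ := by
      rw [Subgroup.subgroupOf_eq_bot, disjoint_iff, inf_comm]; exact h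
    show (K.subgroupOf H).index = Nat.card H
    rw [h5, Subgroup.index_bot]
  rw [← h1, h2, h3, h4, mul_comm]

theorem relIndex_dvd_of_le_normal {G : Type u} [Group G] [Finite G] (X : Subgroup G) [X.Normal]
    {K L : Subgroup G} (h : K ≤ L) : X.relIndex K ∣ X.relIndex L := by
  have h1 := Subgroup.relIndex_ker (QuotientGroup.mk' X) (K := K)
  have h2 := Subgroup.relIndex_ker (QuotientGroup.mk' X) (K := L)
  rw [QuotientGroup.ker_mk'] at h1 h2
  rw [h1, h2]
  exact Subgroup.card_dvd_of_le (Subgroup.map_mono h)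

theorem relIndex_inf_dvd {G : Type u} [Group G] [Finite G] (X Y Z : Subgroup G) [X.Normal]
    (hXY : X ≤ Y) : (X ⊓ Z).relIndex (Y ⊓ Z) ∣ X.relIndex Y := by
  have h1 : (X ⊓ Z).relIndex (Y ⊓ Z) = X.relIndex (Y ⊓ Z) := by
    rw [← Subgroup.inf_relIndex_right (X ⊓ Z) (Y ⊓ Z), ← Subgroup.inf_relIndex_right X (Y ⊓ Z)]
    congr 1
    apply le_antisymm
    · exact le_inf (inf_le_left.trans inf_le_left) inf_le_right
    · exact le_inf (le_inf inf_le_left (inf_le_right.trans inf_le_right)) inf_le_right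
  rw [h1]
  exact relIndex_dvd_of_le_normal X inf_le_left

theorem coatom_comap {G : Type u} [Group G] (N : Subgroup G) [N.Normal] (M : Subgroup (G ⧸ N))
    (hM : IsCoatom M) : IsCoatom (M.comap (QuotientGroup.mk' N)) := by
  have hs := QuotientGroup.mk'_surjective N
  constructor
  · intro h
    apply hM.1
    rw [← Subgroup.map_comap_eq_self_of_surjective hs M, h, Subgroup.map_top_of_surjective _ hs]
  · intro K hK
    have hNK : N ≤ K := by
      refine le_trans ?_ hK.le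
      intro x hx
      rw [Subgroup.mem_comap]
      have : QuotientGroup.mk' N x = 1 := by
        rw [QuotientGroup.mk'_apply, QuotientGroup.eq_one_iff]; exact hx
      rw [this]; exact M.one_mem
    have h1 : M < K.map (QuotientGroup.mk' N) := by
      refine lt_of_le_of_ne ?_ ?_
      · rw [← Subgroup.map_comap_eq_self_of_surjective hs M]; exact Subgroup.map_mono hK.le
      · intro h
        apply hK.not_ge
        rw [h]; exact Subgroup.le_comap_map _ _
    have h2 := hM.2 _ h1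
    rw [← Subgroup.comap_map_eq_self (f := QuotientGroup.mk' N) (H := K)
      (by rw [QuotientGroup.ker_mk']; exact hNK), h2, Subgroup.comap_top]

theorem hmax_quot {G : Type u} [Group G] [Finite G] (p : ℕ) [Fact p.Prime] (h : HMax p G)
    (N : Subgroup G) [N.Normal] : HMax p (G ⧸ N) := by
  intro M hM
  have hs := QuotientGroup.mk'_surjective N
  rcases h _ (coatom_comap N M hM) with ⟨K, hKn, hKc, k, hKi⟩ | hpr
  · left
    obtain ⟨f, hf⟩ : ∃ f : ↥(M.comap (QuotientGroup.mk' N)) →* ↥M, Function.Surjective f :=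
      ⟨(QuotientGroup.mk' N).subgroupComap M,
        MonoidHom.subgroupComap_surjective_of_surjective _ _ hs⟩
    refine ⟨K.map f, hKn.map f hf, ?_, ?_⟩
    · intro hd
      apply hKc
      exact hd.trans (Subgroup.card_dvd_of_surjective (f.subgroupMap K) (f.subgroupMap_surjective K))
    · have hdvd : (K.map f).index ∣ K.index := Subgroup.index_map_dvd K hf
      rw [hKi] at hdvd
      obtain ⟨j, -, hj⟩ := (Nat.dvd_prime_pow Fact.out).mp hdvd
      exact ⟨j, hj⟩
  · right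
    rw [Subgroup.index_comap_of_surjective M hs] at hpr
    exact hpr

theorem chain_pull {G : Type u} [Group G] [Finite G] (p : ℕ) [Fact p.Prime] (N : Subgroup G)
    [N.Normal] (hc : Chain p (G ⧸ N)) :
    ∃ A B C D : Subgroup G, A.Normal ∧ B.Normal ∧ C.Normal ∧ D.Normal ∧ N ≤ A ∧ A ≤ B ∧ B ≤ C ∧
      C ≤ D ∧ ¬ p ∣ N.relIndex A ∧ (∃ k : ℕ, A.relIndex B = p ^ k) ∧ ¬ p ∣ B.relIndex C ∧
      (∃ k : ℕ, C.relIndex D = p ^ k) ∧ ¬ p ∣ D.index ∧ (p = 2 → D = ⊤) := by
  obtain ⟨A, B, C, D, hAn, hBn, hCn, hDn, hAB, hBC, hCD, hA, hAB', hBC', hCD', hD, hD2⟩ := hc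
  have hs := QuotientGroup.mk'_surjective N
  have hrel : ∀ X Y : Subgroup (G ⧸ N), (X.comap (QuotientGroup.mk' N)).relIndex
      (Y.comap (QuotientGroup.mk' N)) = X.relIndex Y := by
    intro X Y
    rw [Subgroup.relIndex_comap, Subgroup.map_comap_eq_self_of_surjective hs]
  refine ⟨A.comap (QuotientGroup.mk' N), B.comap (QuotientGroup.mk' N),
    C.comap (QuotientGroup.mk' N), D.comap (QuotientGroup.mk' N), hAn.comap _, hBn.comap _,
    hCn.comap _, hDn.comap _, ?_, Subgroup.comap_mono hAB, Subgroup.comap_mono hBC,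
    Subgroup.comap_mono hCD, ?_, ?_, ?_, ?_, ?_, ?_⟩
  · intro x hx
    rw [Subgroup.mem_comap]
    have : QuotientGroup.mk' N x = 1 := by
      rw [QuotientGroup.mk'_apply, QuotientGroup.eq_one_iff]; exact hx
    rw [this]; exact A.one_mem
  · have h1 := Subgroup.relIndex_ker (QuotientGroup.mk' N)
      (K := A.comap (QuotientGroup.mk' N))
    rw [QuotientGroup.ker_mk', Subgroup.map_comap_eq_self_of_surjective hs] at h1
    rw [h1]; exact hA
  · rw [hrel]; exact hAB'
  · rw [hrel]; exact hBC'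
  · rw [hrel]; exact hCD'
  · rw [Subgroup.index_comap_of_surjective D hs]; exact hD
  · intro h2
    rw [hD2 h2, Subgroup.comap_top]

theorem exists_normal_p_or_p' {G : Type u} [Group G] [Nontrivial G] (p : ℕ)
    (h : Cfsg.IsPSolvable p G) :
    ∃ N : Subgroup G, N.Normal ∧ N ≠ ⊥ ∧
      ((∃ m : ℕ, Nat.card N = p ^ m) ∨ (Nat.card N).Coprime p) := by
  obtain ⟨n, H, h0, hlast, hmono, hnorm, hfac⟩ := h
  have key : ∀ i : Fin (n + 1), H i ≠ ⊥ → ∃ N : Subgroup G, N.Normal ∧ N ≠ ⊥ ∧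
      ((∃ m : ℕ, Nat.card N = p ^ m) ∨ (Nat.card N).Coprime p) := by
    intro i
    induction i using Fin.induction with
    | zero => intro h; exact absurd h0 h
    | succ i ih =>
      intro hi
      by_cases hc : H i.castSucc = ⊥
      · refine ⟨H i.succ, hnorm _, hi, ?_⟩
        have h1 := hfac i
        rw [hc, Subgroup.relIndex_bot_left] at h1
        exact h1
      · exact ih hc
  apply key (Fin.last n)
  rw [hlast]
  exact top_ne_bot

theorem minNormal_pgroup_comm {G : Type u} [Group G] [Finite G] (p : ℕ) [Fact p.Prime]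
    (N : Subgroup G) (hN : Cfsg.Agent.Helper3.IsMinNormal N) (hNp : IsPGroup p N) :
    ∀ a ∈ N, ∀ b ∈ N, a * b = b * a := by
  obtain ⟨hNn, hN0, hNmin⟩ := hN
  haveI := hNn
  haveI : Nontrivial ↥N := (Subgroup.nontrivial_iff_ne_bot N).mpr hN0
  have hZn : ((Subgroup.center ↥N).map N.subtype).Normal := inferInstance
  have hZ0 : (Subgroup.center ↥N).map N.subtype ≠ ⊥ := by
    intro h
    have h1 := (Subgroup.map_eq_bot_iff_of_injective _ N.subtype_injective).mp h
    have h2 := hNp.bot_lt_center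
    rw [h1] at h2
    exact lt_irrefl _ h2
  rcases hNmin _ hZn (Subgroup.map_subtype_le _) with h | h
  · exact absurd h hZ0
  · intro a ha b hb
    have ha' : a ∈ (Subgroup.center ↥N).map N.subtype := by rw [h]; exact ha
    obtain ⟨a', ha'c, rfl⟩ := ha'
    have := Subgroup.mem_center_iff.mp ha'c ⟨b, hb⟩
    exact (congrArg Subtype.val this).symm

theorem sz_sub {G : Type u} [Group G] [Finite G] (N A : Subgroup G) [N.Normal] (hNA : N ≤ A)
    (hcop : Nat.Coprime (Nat.card N) (N.relIndex A)) :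
    ∃ A₁ : Subgroup G, A₁ ≤ A ∧ A₁ ⊓ N = ⊥ ∧ A₁ ⊔ N = A ∧ Nat.card A₁ = N.relIndex A := by
  have hc1 : Nat.card ↥(N.subgroupOf A) = Nat.card N :=
    Nat.card_congr (Subgroup.subgroupOfEquivOfLe hNA).toEquiv
  obtain ⟨H₁, hH₁⟩ := Subgroup.exists_right_complement'_of_coprime (N := N.subgroupOf A)
    (by rw [hc1]; exact hcop)
  have hcard : Nat.card ↥(H₁.map A.subtype) = N.relIndex A := by
    rw [Subgroup.card_map_of_injective A.subtype_injective]
    exact hH₁.symm.index_eq_card.symm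
  have hinf : H₁.map A.subtype ⊓ N = ⊥ := by
    rw [eq_bot_iff]
    rintro x ⟨⟨h, hh, rfl⟩, hxN⟩
    have h1 : h ∈ N.subgroupOf A ⊓ H₁ := ⟨Subgroup.mem_subgroupOf.mpr hxN, hh⟩
    rw [hH₁.disjoint.eq_bot, Subgroup.mem_bot] at h1
    rw [h1]; exact Subgroup.one_mem _
  refine ⟨H₁.map A.subtype, Subgroup.map_subtype_le H₁, hinf, ?_, hcard⟩
  apply Subgroup.eq_of_le_of_card_ge (sup_le (Subgroup.map_subtype_le H₁) hNA)
  rw [card_sup_eq _ _ hinf, hcard, card_eq_mul_relIndex hNA, mul_comm]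

theorem index_centralizer_dvd {G : Type u} [Group G] [Finite G] (p : ℕ) [Fact p.Prime]
    (N : Subgroup G) [N.Normal] (hN : Nat.card N = p) :
    (Subgroup.centralizer (N : Set G)).index ∣ p - 1 := by
  haveI : IsCyclic ↥N := isCyclic_of_prime_card hN
  obtain ⟨φ, hφ⟩ : ∃ φ : G →* MulAut ↥N,
      ∀ (k : G) (w : ↥N), ((φ k w : ↥N) : G) = k * w * k⁻¹ :=
    ⟨MulAut.conjNormal, fun k w => MulAut.conjNormal_apply k w⟩
  have hker : Subgroup.centralizer (N : Set G) ≤ φ.ker := by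
    intro x hx
    rw [MonoidHom.mem_ker]
    ext w
    rw [hφ]
    have h1 := Subgroup.mem_centralizer_iff.mp hx w w.2
    rw [← h1]; simp
  obtain ⟨ψ, hψ⟩ : ∃ ψ : G ⧸ Subgroup.centralizer (N : Set G) →* MulAut ↥N,
      ∀ k : G, ψ (QuotientGroup.mk k) = φ k := ⟨QuotientGroup.lift _ φ hker, fun k => rfl⟩
  have hinj : Function.Injective ψ := by
    rw [injective_iff_map_eq_one]
    intro q hq
    obtain ⟨k, rfl⟩ := QuotientGroup.mk_surjective q
    rw [hψ] at hq
    rw [QuotientGroup.eq_one_iff, Subgroup.mem_centralizer_iff]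
    intro w hw
    have h1 := hφ k ⟨w, hw⟩
    rw [hq] at h1
    have h2 : w = k * w * k⁻¹ := h1
    have h3 : k * w = k * w * k⁻¹ * k := by group
    rw [h3, ← h2]
  have hcardA : Nat.card (MulAut ↥N) = p - 1 := by
    rw [IsCyclic.card_mulAut, hN, Nat.totient_prime Fact.out]
  rw [Subgroup.index_eq_card, ← hcardA]
  exact Subgroup.card_dvd_of_injective ψ hinj

theorem normal_of_sup_top {G : Type u} [Group G] [Finite G] (N M X : Subgroup G) [N.Normal]
    (hsup : M ⊔ N = ⊤) (hM : ∀ m ∈ M, ∀ x ∈ X, m * x * m⁻¹ ∈ X)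
    (hN : ∀ n ∈ N, ∀ x ∈ X, n * x * n⁻¹ ∈ X) : X.Normal := by
  constructor
  intro x hx g
  have hg : g ∈ ((M ⊔ N : Subgroup G) : Set G) := by rw [hsup]; exact Set.mem_univ g
  rw [Subgroup.mul_normal, Set.mem_mul] at hg
  obtain ⟨m, hm, n, hn, rfl⟩ := hg
  have e : m * n * x * (m * n)⁻¹ = m * (n * x * n⁻¹) * m⁻¹ := by group
  rw [e]
  exact hM m hm _ (hN n hn x hx)

theorem chain_aux (p : ℕ) [Fact p.Prime] : ∀ (n : ℕ) (G : Type u) [Group G] [Finite G],
    Nat.card G = n → Cfsg.IsPSolvable p G → HMax p G → Chain p G := by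
  intro n
  induction n using Nat.strong_induction_on with
  | _ n ih =>
  intro G _ _ hcard hsolv hmax
  have hpp : p.Prime := Fact.out
  have hp1 : ¬ p ∣ 1 := fun h => hpp.one_lt.ne' (Nat.dvd_one.mp h)
  by_cases htriv : Subsingleton G
  · have hc1 : Nat.card G = 1 := Nat.card_of_subsingleton 1
    refine ⟨⊥, ⊥, ⊥, ⊤, inferInstance, inferInstance, inferInstance, inferInstance, le_rfl,
      le_rfl, bot_le, ?_, ⟨0, ?_⟩, ?_, ⟨0, ?_⟩, ?_, fun _ => rfl⟩
    · rw [Subgroup.card_bot]; exact hp1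
    · rw [Subgroup.relIndex_bot_left, Subgroup.card_bot, pow_zero]
    · rw [Subgroup.relIndex_bot_left, Subgroup.card_bot]; exact hp1
    · rw [Subgroup.relIndex_top_right, Subgroup.index_bot, hc1, pow_zero]
    · rw [Subgroup.index_top]; exact hp1
  haveI : Nontrivial G := not_subsingleton_iff_nontrivial.mp htriv
  obtain ⟨N₀, hN₀n, hN₀0, hN₀⟩ := exists_normal_p_or_p' p hsolv
  by_cases hcase : ∃ N : Subgroup G, N.Normal ∧ N ≠ ⊥ ∧ ¬ p ∣ Nat.card N
  · obtain ⟨N, hNn, hN0, hNc⟩ := hcase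
    haveI := hNn
    have hlt : Nat.card (G ⧸ N) < n := hcard ▸ Cfsg.Agent.Helper3.card_quot_lt_of_ne_bot N hN0
    obtain ⟨A, B, C, D, hAn, hBn, hCn, hDn, hNA, hAB, hBC, hCD, hAp, hAB', hBC', hCD', hD,
      hD2⟩ := chain_pull p N (ih _ hlt (G ⧸ N) rfl
        (Cfsg.Agent.Helper23.isPSolvable_quotient hsolv N) (hmax_quot p hmax N))
    refine ⟨A, B, C, D, hAn, hBn, hCn, hDn, hAB, hBC, hCD, ?_, hAB', hBC', hCD', hD, hD2⟩
    rw [card_eq_mul_relIndex hNA]
    exact fun h => (hpp.dvd_mul.mp h).elim hNc hAp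
  push Not at hcase
  have hN₀p : IsPGroup p N₀ := by
    rcases hN₀ with ⟨m, hm⟩ | hc
    · exact IsPGroup.of_card hm
    · exact absurd (hcase N₀ hN₀n hN₀0) ((Nat.Prime.coprime_iff_not_dvd hpp).mp hc.symm)
  haveI := hN₀n
  obtain ⟨N, hNmin, hNN₀⟩ := Cfsg.Agent.Helper3.exists_isMinNormal_le N₀ hN₀0
  have hNn := hNmin.1
  have hN0 := hNmin.2.1
  have hNm := hNmin.2.2
  have hNp : IsPGroup p N := hN₀p.to_le hNN₀
  haveI := hNn
  have hNab : ∀ a ∈ N, ∀ b ∈ N, a * b = b * a := minNormal_pgroup_comm p N hNmin hNp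
  have hlt : Nat.card (G ⧸ N) < n := hcard ▸ Cfsg.Agent.Helper3.card_quot_lt_of_ne_bot N hN0
  obtain ⟨A, B, C, D, hAn, hBn, hCn, hDn, hNA, hAB, hBC, hCD, hAp, hAB', hBC', hCD', hD,
    hD2⟩ := chain_pull p N (ih _ hlt (G ⧸ N) rfl
      (Cfsg.Agent.Helper23.isPSolvable_quotient hsolv N) (hmax_quot p hmax N))
  obtain ⟨a, ha⟩ := IsPGroup.iff_card.mp hNp
  by_cases hA1 : N.relIndex A = 1
  · have hAN : A = N := le_antisymm (Subgroup.relIndex_eq_one.mp hA1) hNA
    obtain ⟨k, hk⟩ := hAB'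
    refine ⟨⊥, B, C, D, inferInstance, hBn, hCn, hDn, bot_le, hBC, hCD, ?_, ⟨a + k, ?_⟩, hBC',
      hCD', hD, hD2⟩
    · rw [Subgroup.card_bot]; exact hp1
    · rw [Subgroup.relIndex_bot_left, card_eq_mul_relIndex hAB, hk, hAN, ha, pow_add]
  -- the `p'`-part of `A / N` is nontrivial
  have hcop : Nat.Coprime (Nat.card N) (N.relIndex A) := by
    rw [ha]
    exact Nat.Coprime.pow_left a ((Nat.Prime.coprime_iff_not_dvd hpp).mpr hAp)
  obtain ⟨A₁, hA₁A, hA₁N, hA₁sup, hA₁card⟩ := sz_sub N A hNA hcop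
  have hA₁0 : A₁ ≠ ⊥ := by
    intro h
    rw [h, Subgroup.card_bot] at hA₁card
    exact hA1 hA₁card.symm
  have hA₁p : ¬ p ∣ Nat.card A₁ := by rw [hA₁card]; exact hAp
  have hsolvN : Group.IsSolvable ↥N :=
    Group.isSolvable_of_comm (fun x y => Subtype.ext (hNab x x.2 y y.2))
  have hfr : ∀ g : G, ∃ n ∈ N, n⁻¹ * g ∈ Subgroup.normalizer (A₁ : Set G) := by
    intro g
    obtain ⟨B₁, hB₁⟩ : ∃ B₁ : Subgroup G, B₁ = A₁.map (MulAut.conj g).toMonoidHom := ⟨_, rfl⟩
    have hB₁mem : ∀ y ∈ A₁, g * y * g⁻¹ ∈ B₁ := by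
      intro y hy
      rw [hB₁]
      exact ⟨y, hy, by simp⟩
    have hB₁card : Nat.card B₁ = Nat.card A₁ := by
      rw [hB₁]; exact Subgroup.card_map_of_injective (MulAut.conj g).injective
    have hB₁A : B₁ ≤ A := by
      rw [hB₁]
      rintro x ⟨y, hy, rfl⟩
      have := hAn.conj_mem y (hA₁A hy) g
      simpa using this
    have hB₁cop : (Nat.card B₁).Coprime (Nat.card N) := by
      rw [hB₁card, hA₁card]; exact hcop.symm
    have hB₁N : B₁ ⊓ N = ⊥ := by
      have h1 : Nat.card ↥(B₁ ⊓ N) ∣ Nat.card B₁ := Subgroup.card_dvd_of_le inf_le_left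
      have h2 : Nat.card ↥(B₁ ⊓ N) ∣ Nat.card N := Subgroup.card_dvd_of_le inf_le_right
      exact Subgroup.card_eq_one.mp (Nat.eq_one_of_dvd_coprimes hB₁cop h1 h2)
    have hB₁sup : B₁ ⊔ N = A₁ ⊔ N := by
      rw [hA₁sup]
      apply Subgroup.eq_of_le_of_card_ge (sup_le hB₁A hNA)
      rw [card_sup_eq _ _ hB₁N, hB₁card, hA₁card, card_eq_mul_relIndex hNA, mul_comm]
    obtain ⟨n, hn, hconj⟩ := Cfsg.Agent.Lead.conj_complement A₁ N B₁
      (le_top.trans_eq (Subgroup.normalizer_eq_top_iff.mpr hNn).symm)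
      (by rw [hA₁card]; exact hcop.symm) (Or.inr hsolvN) hB₁sup hB₁cop
    refine ⟨n, hn, ?_⟩
    apply Cfsg.Agent.Helper3.PiClosed.mem_normalizer_of_conj_mem'
    intro y hy
    have h1 := (hconj (g * y * g⁻¹)).mp (hB₁mem y hy)
    have e : n⁻¹ * g * y * (n⁻¹ * g)⁻¹ = n⁻¹ * (g * y * g⁻¹) * n := by group
    rw [e]; exact h1
  have hNG : Subgroup.normalizer (A₁ : Set G) ≠ ⊤ := by
    intro h
    have hA₁n : A₁.Normal := Subgroup.normalizer_eq_top_iff.mp h
    exact hA₁p (hcase A₁ hA₁n hA₁0)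
  obtain ⟨M, hM, hle⟩ := (eq_top_or_exists_le_coatom _).resolve_left hNG
  have hNM : ¬ N ≤ M := by
    intro h
    apply hM.1
    rw [eq_top_iff]
    intro g _
    obtain ⟨n, hn, hng⟩ := hfr g
    have e : g = n * (n⁻¹ * g) := by group
    rw [e]
    exact M.mul_mem (h hn) (hle hng)
  have hsup : M ⊔ N = ⊤ := by
    apply hM.2
    refine lt_of_le_of_ne le_sup_left (fun h => hNM ?_)
    rw [h]; exact le_sup_right
  have hinf : M ⊓ N = ⊥ := by
    have hn : (M ⊓ N).Normal := by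
      apply normal_of_sup_top N M (M ⊓ N) hsup
      · intro m hm x hx
        exact ⟨M.mul_mem (M.mul_mem hm hx.1) (M.inv_mem hm), hNn.conj_mem x hx.2 m⟩
      · intro n hn x hx
        have e : n * x * n⁻¹ = x := by rw [hNab n hn x hx.2]; group
        rw [e]; exact hx
    rcases hNm _ hn inf_le_right with h | h
    · exact h
    · exact absurd (h ▸ inf_le_left : N ≤ M) hNM
  have hcardG : Nat.card G = Nat.card M * Nat.card N := by
    have h1 := card_sup_eq M N hinf
    rw [hsup, Subgroup.card_top] at h1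
    exact h1
  have hMidx : M.index = Nat.card N := by
    have h1 := M.card_mul_index
    rw [hcardG] at h1
    exact Nat.eq_of_mul_eq_mul_left Nat.card_pos h1
  rcases hmax M hM with ⟨K, hKn, hKc, k, hKi⟩ | hprime
  · -- `M` has a normal `p`-complement
    obtain ⟨K', hK'⟩ : ∃ K' : Subgroup G, K' = K.map M.subtype := ⟨_, rfl⟩
    have hK'M : K' ≤ M := by rw [hK']; exact Subgroup.map_subtype_le K
    have hK'card : Nat.card K' = Nat.card K := by
      rw [hK']; exact Subgroup.card_map_of_injective M.subtype_injective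
    have hK'N : K' ⊓ N = ⊥ := by
      rw [eq_bot_iff, ← hinf]; exact inf_le_inf_right N hK'M
    have hK'conj : ∀ m ∈ M, ∀ x ∈ K', m * x * m⁻¹ ∈ K' := by
      intro m hm x hx
      rw [hK'] at hx ⊢
      obtain ⟨x', hx', rfl⟩ := hx
      exact ⟨⟨m, hm⟩ * x' * ⟨m, hm⟩⁻¹, hKn.conj_mem x' hx' ⟨m, hm⟩, by simp⟩
    have hC₀n : (K' ⊔ N).Normal := by
      apply normal_of_sup_top N M (K' ⊔ N) hsup
      · intro m hm x hx
        have hx' : x ∈ ((K' ⊔ N : Subgroup G) : Set G) := hx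
        rw [Subgroup.mul_normal, Set.mem_mul] at hx'
        obtain ⟨y, hy, z, hz, rfl⟩ := hx'
        have e : m * (y * z) * m⁻¹ = (m * y * m⁻¹) * (m * z * m⁻¹) := by group
        rw [e]
        exact Subgroup.mul_mem _ ((le_sup_left : K' ≤ K' ⊔ N) (hK'conj m hm y hy))
          ((le_sup_right : N ≤ K' ⊔ N) (hNn.conj_mem z hz m))
      · intro n hn x hx
        have hn' : n ∈ K' ⊔ N := (le_sup_right : N ≤ K' ⊔ N) hn
        exact Subgroup.mul_mem _ (Subgroup.mul_mem _ hn' hx) (Subgroup.inv_mem _ hn')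
    have hC₀card : Nat.card ↥(K' ⊔ N) = Nat.card K * Nat.card N := by
      rw [card_sup_eq K' N hK'N, hK'card]
    have hC₀idx : (K' ⊔ N).index = p ^ k := by
      have h1 := (K' ⊔ N).card_mul_index
      have h2 := K.card_mul_index
      rw [hC₀card, hcardG, ← h2, hKi] at h1
      have h3 : Nat.card K * Nat.card N * (K' ⊔ N).index = Nat.card K * Nat.card N * p ^ k := by
        rw [h1]; ring
      exact Nat.eq_of_mul_eq_mul_left (Nat.mul_pos Nat.card_pos Nat.card_pos) h3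
    refine ⟨⊥, N, K' ⊔ N, ⊤, inferInstance, hNn, hC₀n, inferInstance, bot_le, le_sup_right,
      le_top, ?_, ⟨a, ?_⟩, ?_, ⟨k, ?_⟩, ?_, fun _ => rfl⟩
    · rw [Subgroup.card_bot]; exact hp1
    · rw [Subgroup.relIndex_bot_left, ha]
    · rw [Subgroup.relIndex_sup_right]
      intro h
      apply hKc
      rw [← hK'card]
      exact h.trans (Subgroup.relIndex_dvd_card N K')
    · rw [Subgroup.relIndex_top_right]; exact hC₀idx
    · rw [Subgroup.index_top]; exact hp1
  · -- `M` has prime index, so `N` has order `p`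
    have hNcard : Nat.card N = p := by
      rw [hMidx, ha] at hprime
      have ha0 : a ≠ 0 := by
        rintro rfl
        rw [pow_zero] at hprime
        exact Nat.not_prime_one hprime
      have h1 : p ∣ p ^ a := dvd_pow_self p ha0
      rcases (Nat.dvd_prime hprime).mp h1 with h | h
      · exact absurd h hpp.one_lt.ne'
      · rw [ha]; exact h.symm
    obtain ⟨CN, hCN⟩ : ∃ CN : Subgroup G, CN = Subgroup.centralizer (N : Set G) := ⟨_, rfl⟩
    haveI hCNn : CN.Normal := by rw [hCN]; infer_instance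
    have hCNidx : CN.index ∣ p - 1 := by rw [hCN]; exact index_centralizer_dvd p N hNcard
    have hCNp : ¬ p ∣ CN.index := by
      intro h
      have h1 := h.trans hCNidx
      have h2 : 0 < p - 1 := Nat.sub_pos_of_lt hpp.one_lt
      have := Nat.le_of_dvd h2 h1
      omega
    have hNCN : N ≤ CN := by
      intro x hx
      rw [hCN, Subgroup.mem_centralizer_iff]
      intro y hy
      exact hNab y hy x hx
    have hmemCN : ∀ x ∈ CN, ∀ n ∈ N, n * x * n⁻¹ = x := by
      intro x hx n hn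
      rw [hCN, Subgroup.mem_centralizer_iff] at hx
      rw [hx n hn]; group
    -- `A ⊓ M ⊓ CN` is a normal `p'`-subgroup, hence trivial
    have hA₂n : (A ⊓ M ⊓ CN).Normal := by
      apply normal_of_sup_top N M (A ⊓ M ⊓ CN) hsup
      · intro m hm x hx
        exact ⟨⟨hAn.conj_mem x hx.1.1 m, M.mul_mem (M.mul_mem hm hx.1.2) (M.inv_mem hm)⟩,
          hCNn.conj_mem x hx.2 m⟩
      · intro n hn x hx
        rw [hmemCN x hx.2 n hn]; exact hx
    have hA₂N : (A ⊓ M ⊓ CN) ⊓ N = ⊥ := by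
      rw [eq_bot_iff, ← hinf]
      exact inf_le_inf_right N (inf_le_left.trans inf_le_right)
    have hA₂p : ¬ p ∣ Nat.card ↥(A ⊓ M ⊓ CN) := by
      intro h
      have h1 : Nat.card ↥((A ⊓ M ⊓ CN) ⊔ N) ∣ Nat.card A :=
        Subgroup.card_dvd_of_le (sup_le (inf_le_left.trans inf_le_left) hNA)
      rw [card_sup_eq _ _ hA₂N, card_eq_mul_relIndex hNA, mul_comm] at h1
      have h2 := Nat.dvd_of_mul_dvd_mul_left Nat.card_pos h1
      exact hAp (h.trans h2)
    have hA₂ : A ⊓ M ⊓ CN = ⊥ := by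
      by_contra h
      exact hA₂p (hcase _ hA₂n h)
    have hT : A ⊓ CN = N := by
      haveI : (A ⊓ CN).Normal := inferInstance
      have h1 : M ⊓ (A ⊓ CN) = ⊥ := by
        rw [← hA₂]
        apply le_antisymm
        · exact le_inf (le_inf (inf_le_right.trans inf_le_left) inf_le_left)
            (inf_le_right.trans inf_le_right)
        · exact le_inf (inf_le_left.trans inf_le_right)
            (le_inf (inf_le_left.trans inf_le_left) inf_le_right)
      have h2 := card_sup_eq M (A ⊓ CN) h1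
      have h3 : Nat.card ↥(M ⊔ (A ⊓ CN)) ≤ Nat.card G := Subgroup.card_le_card_group _
      rw [h2, hcardG] at h3
      have h4 : Nat.card ↥(A ⊓ CN) ≤ Nat.card N := Nat.le_of_mul_le_mul_left h3 Nat.card_pos
      exact (Subgroup.eq_of_le_of_card_ge (le_inf hNA hNCN) h4).symm
    haveI := hAn
    haveI := hBn
    haveI := hCn
    haveI := hDn
    obtain ⟨k₁, hk₁⟩ := hAB'
    obtain ⟨k₂, hk₂⟩ := hCD'
    have hd1 : (A ⊓ CN).relIndex (B ⊓ CN) ∣ p ^ k₁ := hk₁ ▸ relIndex_inf_dvd A B CN hAB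
    have hd2 : (B ⊓ CN).relIndex (C ⊓ CN) ∣ B.relIndex C := relIndex_inf_dvd B C CN hBC
    have hd3 : (C ⊓ CN).relIndex (D ⊓ CN) ∣ p ^ k₂ := hk₂ ▸ relIndex_inf_dvd C D CN hCD
    obtain ⟨j₁, -, hj₁⟩ := (Nat.dvd_prime_pow hpp).mp hd1
    obtain ⟨j₂, -, hj₂⟩ := (Nat.dvd_prime_pow hpp).mp hd3
    refine ⟨⊥, B ⊓ CN, C ⊓ CN, D ⊓ CN, inferInstance, inferInstance, inferInstance,
      inferInstance, bot_le, inf_le_inf_right CN hBC, inf_le_inf_right CN hCD, ?_, ⟨1 + j₁, ?_⟩,
      ?_, ⟨j₂, hj₂⟩, ?_, ?_⟩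
    · rw [Subgroup.card_bot]; exact hp1
    · rw [Subgroup.relIndex_bot_left,
        card_eq_mul_relIndex (inf_le_inf_right CN hAB : A ⊓ CN ≤ B ⊓ CN), hj₁, hT, hNcard,
        pow_add, pow_one]
    · exact fun h => hBC' (h.trans hd2)
    · rw [← Subgroup.relIndex_mul_index (inf_le_right : D ⊓ CN ≤ CN), Subgroup.inf_relIndex_right]
      intro h
      rcases hpp.dvd_mul.mp h with h1 | h1
      · exact hD (h1.trans (Subgroup.relIndex_dvd_index_of_normal D CN))
      · exact hCNp h1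
    · intro h2
      have h3 : CN = ⊤ := by
        apply Subgroup.index_eq_one.mp
        rw [h2] at hCNidx
        exact Nat.dvd_one.mp hCNidx
      rw [hD2 h2, h3, inf_top_eq]

theorem chain_thm {G : Type u} [Group G] [Finite G] (p : ℕ) [Fact p.Prime]
    (hsolv : Cfsg.IsPSolvable p G) (hmax : HMax p G) : Chain p G :=
  chain_aux p _ G rfl hsolv hmax

end Cfsg.Agent.Helper3.PLenMax
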