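import Mathlib
import Cfsg.Prelude.Def_Classical
import Cfsg.Agent.S0245

set_option autoImplicit false

namespace Cfsg.Agent.Helper3.PSpRS

theorem eta_le_of_dvd {F : Type*} [Field F] [Fintype F] (p : ℕ) [Fact p.Prime] [CharP F p] (n s l ηl : ℕ) (hs : s.Prime) (hsp : s ≠ p) (hsG : s ∣ Nat.card (Cfsg.PSp n F)) (hl : l = orderOf ((Fintype.card F : ℕ) : ZMod s)) (hηl : (Odd l ∧ ηl = l) ∨ (Even l ∧ 2 * ηl = l)) : ηl ≤ n := by
  classical
  have hp : p.Prime := Fact.out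
  have h1 : Nat.card (Cfsg.PSp n F) ∣ Nat.card (Matrix.symplecticGroup (Fin n) F) :=
    Subgroup.card_quotient_dvd_card _
  have h2 := Cfsg.Agent.S0245.result (F := F) (q := Fintype.card F) rfl n
  have h3 : s ∣ Fintype.card F ^ (n ^ 2) *
      ∏ i ∈ Finset.range n, (Fintype.card F ^ (2 * (i + 1)) - 1) := by
    rw [← h2]; exact hsG.trans h1
  obtain ⟨k, _, hk⟩ := FiniteField.card F p
  have hsq : ¬ s ∣ Fintype.card F := by
    rw [hk]; intro h
    have := hs.dvd_of_dvd_pow h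
    exact hsp ((Nat.prime_dvd_prime_iff_eq hs hp).1 this)
  have h4 : s ∣ ∏ i ∈ Finset.range n, (Fintype.card F ^ (2 * (i + 1)) - 1) := by
    rcases (Nat.Prime.dvd_mul hs).1 h3 with h | h
    · exact absurd (hs.dvd_of_dvd_pow h) hsq
    · exact h
  obtain ⟨i, hi, hdi⟩ := (Prime.dvd_finsetProd_iff hs.prime _).1 h4
  rw [Finset.mem_range] at hi
  have hpos : 1 ≤ Fintype.card F ^ (2 * (i + 1)) := Nat.one_le_pow _ _ Fintype.card_pos
  have h5 : ((Fintype.card F : ℕ) : ZMod s) ^ (2 * (i + 1)) = 1 := by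
    have : ((Fintype.card F ^ (2 * (i + 1)) - 1 : ℕ) : ZMod s) = 0 :=
      (ZMod.natCast_eq_zero_iff _ _).2 hdi
    rw [Nat.cast_sub hpos, Nat.cast_pow, Nat.cast_one, sub_eq_zero] at this
    exact this
  have h6 : l ∣ 2 * (i + 1) := by rw [hl]; exact orderOf_dvd_of_pow_eq_one h5
  rcases hηl with ⟨hodd, he⟩ | ⟨_, he⟩
  · have hc : Nat.Coprime l 2 := (Nat.coprime_two_left.2 hodd).symm
    have h7 : l ∣ i + 1 := (Nat.Coprime.dvd_mul_left hc).1 h6
    rw [he]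
    exact (Nat.le_of_dvd (Nat.succ_pos i) h7).trans hi
  · rw [← he] at h6
    have h7 : ηl ∣ i + 1 := (Nat.mul_dvd_mul_iff_left (by norm_num)).1 h6
    exact (Nat.le_of_dvd (Nat.succ_pos i) h7).trans hi

end Cfsg.Agent.Helper3.PSpRS
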