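import Mathlib
import Cfsg.Agent.Helper14.Psu3a
import Cfsg.Agent.Helper14.Psl3c

set_option autoImplicit false

namespace Cfsg.Agent.Helper3.Psu3p1

open Matrix Polynomial

theorem dvd_aux (q : ℕ) (hq : 2 ≤ q) : Nat.gcd 3 (q + 1) ∣ q ^ 2 - q + 1 := by
  obtain ⟨t, rfl⟩ : ∃ t, q = t + 2 := ⟨q - 2, by omega⟩
  have e : (t + 2) ^ 2 - (t + 2) + 1 = t * (t + 2 + 1) + 3 := by
    have : (t + 2) ^ 2 = t * (t + 2 + 1) + 3 + (t + 2) - 1 := by
      have h1 : (t + 2) ^ 2 = t * (t + 2 + 1) + 3 + (t + 1) := by ring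
      omega
    omega
  rw [e]
  exact dvd_add (Dvd.dvd.mul_left (Nat.gcd_dvd_right 3 _) t) (Nat.gcd_dvd_left 3 _)

theorem arith (q : ℕ) : (q ^ 2 - q + 1) * (q + 1) = q ^ 3 + 1 ∧
    (q ^ 2 - q + 1) * (q ^ 2 + q + 1) = (q ^ 2) ^ 2 + q ^ 2 + 1 := by
  obtain ⟨w, hw⟩ : ∃ w, q ^ 2 = w + q :=
    ⟨q ^ 2 - q, by have : q ≤ q ^ 2 := Nat.le_self_pow two_ne_zero q; omega⟩
  have hS : q ^ 2 - q + 1 = w + 1 := by omega
  have hqq : q * q = w + q := by rw [← hw]; ring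
  rw [hS]
  constructor
  · calc (w + 1) * (q + 1) = w * q + (w + q) + 1 := by ring
      _ = w * q + q * q + 1 := by rw [hqq]
      _ = q * (w + q) + 1 := by ring
      _ = q * q ^ 2 + 1 := by rw [hw]
      _ = q ^ 3 + 1 := by ring
  · rw [hw]
    calc (w + 1) * (w + q + q + 1) = w ^ 2 + 2 * w * q + (w + q) + (w + q) + 1 := by ring
      _ = w ^ 2 + 2 * w * q + q * q + (w + q) + 1 := by rw [hqq]
      _ = (w + q) ^ 2 + (w + q) + 1 := by ring

theorem case_irred {F : Type*} [Field F] [Fintype F] (p : ℕ) [Fact p.Prime] [CharP F p] (q : ℕ) (hF : Fintype.card F = q ^ 2) (M : Matrix (Fin 3) (Fin 3) F) (hdet : M.det = 1) (hU : Mᵀ * M.map (fun x => x ^ q) = 1) (hirr : Irreducible M.charpoly) : ∃ c : F, M ^ ((q ^ 2 - q + 1) / Nat.gcd 3 (q + 1)) = c • (1 : Matrix (Fin 3) (Fin 3) F) := by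
  classical
  have hq2 : 2 ≤ q := by
    have h1 : 1 < Fintype.card F := Fintype.one_lt_card
    rw [hF] at h1
    by_contra hcon
    have : q ≤ 1 := by omega
    interval_cases q <;> simp at h1
  have hq0 : q ≠ 0 := by omega
  obtain ⟨m, hm⟩ := Cfsg.Agent.Helper14.Psu3a.q_pow p q hF
  obtain ⟨χ, hχ⟩ : ∃ χ : Polynomial F, χ = M.charpoly := ⟨_, rfl⟩
  rw [← hχ] at hirr
  have : Fact (Irreducible χ) := ⟨hirr⟩
  have hP0 : ∀ r : AdjoinRoot χ, aeval r χ = 0 → aeval ((r ^ q)⁻¹) χ = 0 := by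
    subst hχ
    intro r hr
    exact Cfsg.Agent.Helper14.Psu3a.root_closed p q hF M hU r hr
  have hmon : χ.Monic := by rw [hχ]; exact Matrix.charpoly_monic M
  have hdeg : χ.natDegree = 3 := by
    rw [hχ, Matrix.charpoly_natDegree_eq_dim, Fintype.card_fin]
  have hχ0 : χ ≠ 0 := hmon.ne_zero
  obtain ⟨pb, hpb⟩ : ∃ pb : PowerBasis F (AdjoinRoot χ), pb = AdjoinRoot.powerBasis hχ0 :=
    ⟨_, rfl⟩
  have hgen : pb.gen = AdjoinRoot.root χ := by rw [hpb, AdjoinRoot.powerBasis_gen]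
  have hdim : pb.dim = 3 := by rw [hpb, AdjoinRoot.powerBasis_dim, hdeg]
  have : Module.Finite F (AdjoinRoot χ) := PowerBasis.finite pb
  have : Finite (AdjoinRoot χ) := Module.finite_of_finite F
  have hfr : Module.finrank F (AdjoinRoot χ) = 3 := by rw [PowerBasis.finrank pb, hdim]
  have hmin : minpoly F pb.gen = χ := by
    rw [hpb]; exact AdjoinRoot.minpoly_powerBasis_gen_of_monic hmon hχ0
  have hnorm : Algebra.norm F (AdjoinRoot.root χ) = 1 := by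
    have h1 := Algebra.PowerBasis.norm_gen_eq_coeff_zero_minpoly pb
    rw [hmin, hgen, hdim] at h1
    rw [h1]
    have h2 := Matrix.det_eq_sign_charpoly_coeff M
    rw [hdet, Fintype.card_fin, ← hχ] at h2
    exact h2.symm
  have hsum : ∑ i ∈ Finset.range 3, Fintype.card F ^ i =
      Fintype.card F ^ 2 + Fintype.card F + 1 := by
    simp [Finset.sum_range_succ]
    ring
  have hpow : (AdjoinRoot.root χ) ^ ((q ^ 2) ^ 2 + q ^ 2 + 1) = 1 := by
    have h1 := FiniteField.algebraMap_norm_eq_pow_sum F (AdjoinRoot χ) (AdjoinRoot.root χ)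
    rw [hnorm, map_one, hfr, Nat.card_eq_fintype_card, hsum, hF] at h1
    exact h1.symm
  obtain ⟨r, hrdef⟩ : ∃ r : AdjoinRoot χ, r = AdjoinRoot.root χ := ⟨_, rfl⟩
  rw [← hrdef] at hpow
  have hr : aeval r χ = 0 := by rw [hrdef, AdjoinRoot.aeval_eq, AdjoinRoot.mk_self]
  have hr0 : r ≠ 0 := by
    intro h
    rw [h, zero_pow (by positivity)] at hpow
    exact zero_ne_one hpow
  have hs := hP0 r hr
  -- Frobenius injectivity
  have : CharP (AdjoinRoot χ) p :=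
    charP_of_injective_algebraMap (algebraMap F (AdjoinRoot χ)).injective p
  have hinj : ∀ x : AdjoinRoot χ, x ^ q = 1 → x = 1 := by
    intro x hx
    have h1 : (x - 1) ^ q = 0 := by
      rw [hm, sub_pow_char_pow (p := p) (n := m) (x := x) (y := 1), ← hm, hx, one_pow, sub_self]
    exact sub_eq_zero.1 ((pow_eq_zero_iff hq0).1 h1)
  -- r ^ (q+1) ≠ 1
  have hnot : r ^ (q + 1) ≠ 1 := by
    intro h
    have hcard : Fintype.card F - 1 = (q + 1) * (q - 1) := by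
      rw [hF]
      obtain ⟨t, rfl⟩ : ∃ t, q = t + 1 := ⟨q - 1, by omega⟩
      have : (t + 1) ^ 2 = (t + 1 + 1) * (t + 1 - 1) + 1 := by
        have e : t + 1 - 1 = t := by omega
        rw [e]; ring
      omega
    have h1 : r ^ (Fintype.card F - 1) = 1 := by rw [hcard, pow_mul, h, one_pow]
    have hpos : 0 < Fintype.card F - 1 := by
      have := Fintype.one_lt_card (α := F); omega
    obtain ⟨c, hc⟩ := Cfsg.Agent.Helper14.Psl3c.root_mem (F := F) (K := AdjoinRoot χ)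
      (Fintype.card F - 1) hpos dvd_rfl r h1
    rw [← hc, aeval_algebraMap_apply] at hr
    have h2 : aeval c χ = 0 := (algebraMap F (AdjoinRoot χ)).injective (by rw [hr, map_zero])
    have h3 : χ.IsRoot c := by
      rw [Polynomial.IsRoot, ← h2, Polynomial.coe_aeval_eq_eval]
    have h4 := Polynomial.degree_eq_one_of_irreducible_of_root hirr h3
    rw [Polynomial.degree_eq_natDegree hχ0, hdeg] at h4
    norm_num at h4
  -- the automorphism
  have hs' : χ.eval₂ (↑(Algebra.ofId F (AdjoinRoot χ)) : F →+* AdjoinRoot χ) ((r ^ q)⁻¹) = 0 := by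
    rw [Polynomial.aeval_def] at hs
    exact hs
  obtain ⟨n, hn⟩ := (FiniteField.bijective_frobeniusAlgHom_pow F (AdjoinRoot χ)).2
    (AdjoinRoot.liftAlgHom χ (Algebra.ofId F (AdjoinRoot χ)) ((r ^ q)⁻¹) hs')
  have hn3 : n.1 < 3 := lt_of_lt_of_eq n.2 hfr
  have hfrob : (r ^ q)⁻¹ = r ^ ((q ^ 2) ^ n.1) := by
    have h1 := congrArg (fun τ : AdjoinRoot χ →ₐ[F] AdjoinRoot χ => τ r) hn
    simp only at h1
    rw [AlgHom.coe_pow, FiniteField.coe_frobeniusAlgHom, pow_iterate, hF] at h1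
    have h2 : r ^ ((q ^ 2) ^ n.1) = (AdjoinRoot.liftAlgHom χ (Algebra.ofId F (AdjoinRoot χ))
        ((r ^ q)⁻¹) hs') r := h1
    rw [h2]
    subst hrdef
    rw [AdjoinRoot.liftAlgHom_root]
  have hrel : r ^ ((q ^ 2) ^ n.1) * r ^ q = 1 := by
    rw [← hfrob]; exact inv_mul_cancel₀ (pow_ne_zero _ hr0)
  have hgood : r ^ (q ^ 3 + 1) = 1 := by
    have h3 : n.1 = 0 ∨ n.1 = 1 ∨ n.1 = 2 := by omega
    rcases h3 with h | h | h
    · exfalso
      rw [h, pow_zero, pow_one, ← pow_succ'] at hrel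
      exact hnot hrel
    · exfalso
      rw [h, pow_one, ← pow_add] at hrel
      have e : q ^ 2 + q = (q + 1) * q := by ring
      rw [e, pow_mul] at hrel
      exact hnot (hinj _ hrel)
    · rw [h, ← pow_add] at hrel
      have e : (q ^ 2) ^ 2 + q = (q ^ 3 + 1) * q := by ring
      rw [e, pow_mul] at hrel
      exact hinj _ hrel
  obtain ⟨e1, e2⟩ := arith q
  have hz1 : r ^ (q ^ 2 - q + 1) = 1 := by
    have ha : (r ^ (q ^ 2 - q + 1)) ^ (q + 1) = 1 := by rw [← pow_mul, e1, hgood]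
    have hb : (r ^ (q ^ 2 - q + 1)) ^ (q ^ 2 + q + 1) = 1 := by rw [← pow_mul, e2, hpow]
    have hoa := orderOf_dvd_of_pow_eq_one ha
    have hob := orderOf_dvd_of_pow_eq_one hb
    have e3 : q ^ 2 + q + 1 = q * (q + 1) + 1 := by ring
    rw [e3] at hob
    have ho1 : orderOf (r ^ (q ^ 2 - q + 1)) ∣ 1 :=
      (Nat.dvd_add_right (Dvd.dvd.mul_left hoa q)).1 hob
    exact orderOf_eq_one_iff.1 (Nat.dvd_one.1 ho1)
  have hd0 : 0 < Nat.gcd 3 (q + 1) := Nat.gcd_pos_of_pos_left _ (by norm_num)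
  have hdS : Nat.gcd 3 (q + 1) ∣ q ^ 2 - q + 1 := dvd_aux q hq2
  obtain ⟨N1, hN1⟩ : ∃ N1, N1 = (q ^ 2 - q + 1) / Nat.gcd 3 (q + 1) := ⟨_, rfl⟩
  rw [← hN1]
  have hN1d : N1 * Nat.gcd 3 (q + 1) = q ^ 2 - q + 1 := by
    rw [hN1]; exact Nat.div_mul_cancel hdS
  have hz : (r ^ N1) ^ Nat.gcd 3 (q + 1) = 1 := by
    rw [← pow_mul, hN1d, hz1]
  have hdF : Nat.gcd 3 (q + 1) ∣ Fintype.card F - 1 := by
    have hcard : Fintype.card F - 1 = (q + 1) * (q - 1) := by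
      rw [hF]
      obtain ⟨t, rfl⟩ : ∃ t, q = t + 1 := ⟨q - 1, by omega⟩
      have : (t + 1) ^ 2 = (t + 1 + 1) * (t + 1 - 1) + 1 := by
        have e : t + 1 - 1 = t := by omega
        rw [e]; ring
      omega
    rw [hcard]
    exact Dvd.dvd.mul_right (Nat.gcd_dvd_right 3 _) _
  obtain ⟨c, hc⟩ := Cfsg.Agent.Helper14.Psl3c.root_mem (F := F) (K := AdjoinRoot χ)
    (Nat.gcd 3 (q + 1)) hd0 hdF _ hz
  have hmk : AdjoinRoot.mk χ (X ^ N1 - C c) = 0 := by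
    rw [map_sub, map_pow, AdjoinRoot.mk_X, AdjoinRoot.mk_C, ← AdjoinRoot.algebraMap_eq, hc,
      hrdef, sub_self]
  obtain ⟨g, hg⟩ := AdjoinRoot.mk_eq_zero.mp hmk
  have h := Matrix.aeval_self_charpoly M
  rw [← hχ] at h
  have h2 : Polynomial.aeval M (X ^ N1 - C c) = 0 := by rw [hg, map_mul, h, zero_mul]
  rw [map_sub, map_pow, Polynomial.aeval_X, Polynomial.aeval_C,
    Algebra.algebraMap_eq_smul_one] at h2
  exact ⟨c, sub_eq_zero.mp h2⟩

end Cfsg.Agent.Helper3.Psu3p1
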