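import Mathlib
import Cfsg.Agent.Helper23.QP5

set_option autoImplicit false

namespace Cfsg.Agent.Helper3.S4172g

theorem no_central {G : Type*} [Group G] [Finite G] (p : ℕ) [Fact p.Prime] (P : Sylow p G) (hfrat : ((frattini ↥(P : Subgroup G)).map (P : Subgroup G).subtype).normalCore = ⊥) (E : Subgroup G) (hZ : ∀ (R : Sylow p ↥E) (z : ↥E), z ∈ Subgroup.center ↥E → z ∈ (R : Subgroup ↥E) → z ∈ ⁅(R : Subgroup ↥E), (R : Subgroup ↥E)⁆) (N : Subgroup G) (hN : N.Normal) (hNp : IsPGroup p ↥N) (hNE : N ≤ E) (hc : ∀ n ∈ N, ∀ e ∈ E, n * e = e * n) : N = ⊥ := by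
  classical
  obtain ⟨R, hR⟩ := (hNp.comap_subtype (K := E)).exists_le_sylow
  have hRp : IsPGroup p ((R : Subgroup E).map E.subtype) := R.2.map _
  obtain ⟨Q, hQ⟩ := hRp.exists_le_sylow
  obtain ⟨g, hg⟩ := MulAction.exists_smul_eq G P Q
  let ψ : E →* G := (MulAut.conj g⁻¹).toMonoidHom.comp E.subtype
  have hψ : ∀ e : E, ψ e = g⁻¹ * (e : G) * g := by
    intro e
    simp [ψ]
  have hψR : (R : Subgroup E).map ψ ≤ (P : Subgroup G) := by
    rintro _ ⟨e, he, rfl⟩
    have h1 : (e : G) ∈ (Q : Subgroup G) := hQ ⟨e, he, rfl⟩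
    rw [← hg, Sylow.coe_subgroup_smul, Subgroup.mem_pointwise_smul_iff_inv_smul_mem] at h1
    rw [hψ]
    simpa [MulAut.smul_def] using h1
  have hcomm : ⁅(P : Subgroup G), (P : Subgroup G)⁆ ≤
      (frattini ↥(P : Subgroup G)).map (P : Subgroup G).subtype := by
    rw [Subgroup.commutator_le]
    intro a ha b hb
    have := Cfsg.Agent.Helper23.QP.commutator_mem_frattini (p := p) P.2 ⟨a, ha⟩ ⟨b, hb⟩
    exact ⟨_, this, rfl⟩
  have key : ∀ n ∈ N, g⁻¹ * n * g ∈
      (frattini ↥(P : Subgroup G)).map (P : Subgroup G).subtype := by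
    intro n hn
    have hnE : n ∈ E := hNE hn
    have hcen : (⟨n, hnE⟩ : E) ∈ Subgroup.center E := by
      rw [Subgroup.mem_center_iff]
      intro e
      apply Subtype.ext
      simp only [Subgroup.coe_mul]
      exact (hc n hn e e.2).symm
    have hnR : (⟨n, hnE⟩ : E) ∈ (R : Subgroup E) := hR (by
      rw [Subgroup.mem_comap]
      exact hn)
    have h1 := hZ R ⟨n, hnE⟩ hcen hnR
    have h2 : ψ ⟨n, hnE⟩ ∈ (⁅(R : Subgroup E), (R : Subgroup E)⁆).map ψ := ⟨_, h1, rfl⟩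
    rw [Subgroup.map_commutator] at h2
    have h3 := Subgroup.commutator_mono hψR hψR h2
    have h4 := hcomm h3
    rw [hψ] at h4
    exact h4
  have hle : N ≤ (frattini ↥(P : Subgroup G)).map (P : Subgroup G).subtype := by
    intro n hn
    have h1 : g * n * g⁻¹ ∈ N := hN.conj_mem n hn g
    have h2 := key _ h1
    have e : g⁻¹ * (g * n * g⁻¹) * g = n := by group
    rw [e] at h2
    exact h2
  have := hN
  have h5 := (Subgroup.normal_le_normalCore).2 hle
  rw [hfrat] at h5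
  exact le_bot_iff.1 h5

end Cfsg.Agent.Helper3.S4172g
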