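import Cfsg.Agent.Helper2.SylU

set_option autoImplicit false
set_option linter.unusedSectionVars false

namespace Cfsg.Agent.Helper3.S4349m

open Cfsg.Agent.Helper2.SylU

variable {α : Type*} [Fintype α] [DecidableEq α]

/-- the `D`-orbit of `a` as a finset -/
noncomputable def orb (D : Subgroup (Equiv.Perm α)) (a : α) : Finset α := by
  classical exact Finset.univ.filter (fun b => ∃ d ∈ D, d a = b)

theorem mem_orb (D : Subgroup (Equiv.Perm α)) (a b : α) :
    b ∈ orb D a ↔ ∃ d ∈ D, d a = b := by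
  classical
  unfold orb
  simp

theorem self_mem_orb (D : Subgroup (Equiv.Perm α)) (a : α) : a ∈ orb D a :=
  (mem_orb D a a).2 ⟨1, D.one_mem, rfl⟩

theorem isOrb_orb (D : Subgroup (Equiv.Perm α)) (a : α) : IsOrb D (orb D a) := by
  constructor
  · intro d hd b hb
    obtain ⟨e, he, rfl⟩ := (mem_orb D a b).1 hb
    exact (mem_orb D a _).2 ⟨d * e, D.mul_mem hd he, rfl⟩
  · intro b hb c hc
    obtain ⟨e, he, rfl⟩ := (mem_orb D a b).1 hb
    obtain ⟨f, hf, rfl⟩ := (mem_orb D a c).1 hc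
    exact ⟨f * e⁻¹, D.mul_mem hf (D.inv_mem he), by simp⟩

theorem good_mono (x : Equiv.Perm α) (hgood : Good x Finset.univ) (O : Finset α) :
    Good x O :=
  ⟨fun a _ b _ => hgood.1 a (Finset.mem_univ a) b (Finset.mem_univ b),
   fun a _ b _ c _ => hgood.2 a (Finset.mem_univ a) b (Finset.mem_univ b) c (Finset.mem_univ c)⟩

theorem orb_pow (D : Subgroup (Equiv.Perm α)) (h : Equiv.Perm α)
    (hh : ∀ d ∈ D, h * d * h⁻¹ ∈ D) (a : α) (ha : h a ∈ orb D a) :
    ∀ k : ℕ, (h ^ k) a ∈ orb D a := by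
  intro k
  induction k with
  | zero => simpa using self_mem_orb D a
  | succ k ih =>
    obtain ⟨d, hd, hda⟩ := (mem_orb D a _).1 ih
    obtain ⟨d0, hd0, hd0a⟩ := (mem_orb D a _).1 ha
    refine (mem_orb D a _).2 ⟨h * d * h⁻¹ * d0, D.mul_mem (hh d hd) hd0, ?_⟩
    rw [pow_succ']
    simp [hd0a, hda]

theorem conj_pow (D : Subgroup (Equiv.Perm α)) (g : Equiv.Perm α)
    (hgD : ∀ d ∈ D, g * d * g⁻¹ ∈ D) :
    ∀ k : ℕ, ∀ d ∈ D, g ^ k * d * (g ^ k)⁻¹ ∈ D := by
  intro k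
  induction k with
  | zero => intro d hd; simpa using hd
  | succ k ih =>
    intro d hd
    have h1 := hgD _ (ih d hd)
    have e : g ^ (k + 1) * d * (g ^ (k + 1))⁻¹ = g * (g ^ k * d * (g ^ k)⁻¹) * g⁻¹ := by
      rw [pow_succ']; simp [mul_assoc]
    rw [e]; exact h1

theorem pow_pred_eq_inv (g : Equiv.Perm α) : g ^ (orderOf g - 1) = g⁻¹ := by
  have h : g ^ (orderOf g - 1) * g = 1 := by
    rw [← pow_succ, Nat.sub_add_cancel (orderOf_pos g), pow_orderOf_eq_one]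
  exact eq_inv_of_mul_eq_one_left h

theorem conj_inv (D : Subgroup (Equiv.Perm α)) (g : Equiv.Perm α)
    (hgD : ∀ d ∈ D, g * d * g⁻¹ ∈ D) : ∀ d ∈ D, g⁻¹ * d * g ∈ D := by
  intro d hd
  have h := conj_pow D g hgD (orderOf g - 1) d hd
  rw [pow_pred_eq_inv] at h
  simpa using h

theorem map_orb (D : Subgroup (Equiv.Perm α)) (h : Equiv.Perm α)
    (hh : ∀ d ∈ D, h * d * h⁻¹ ∈ D) (a b : α) (hb : b ∈ orb D a) : h b ∈ orb D (h a) := by
  obtain ⟨d, hd, rfl⟩ := (mem_orb D a b).1 hb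
  exact (mem_orb D _ _).2 ⟨h * d * h⁻¹, hh d hd, by simp⟩

theorem common (D : Subgroup (Equiv.Perm α)) (a b c : α) (h1 : c ∈ orb D a)
    (h2 : c ∈ orb D b) : b ∈ orb D a := by
  obtain ⟨d, hd, rfl⟩ := (mem_orb D a c).1 h1
  obtain ⟨e, he, hec⟩ := (mem_orb D b _).1 h2
  refine (mem_orb D _ _).2 ⟨e⁻¹ * d, D.mul_mem (D.inv_mem he) hd, ?_⟩
  simp [← hec]

theorem card_orb_map (D : Subgroup (Equiv.Perm α)) (g : Equiv.Perm α)
    (hgD : ∀ d ∈ D, g * d * g⁻¹ ∈ D) (hginv : ∀ d ∈ D, g⁻¹ * d * g ∈ D) (a : α) :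
    (orb D (g a)).card = (orb D a).card := by
  symm
  refine Finset.card_bij (fun b _ => g b) (fun b hb => map_orb D g hgD a b hb)
    (fun b _ c _ hbc => g.injective hbc) ?_
  intro c hc
  refine ⟨g⁻¹ c, ?_, by simp⟩
  have h := map_orb D g⁻¹ (by simpa using hginv) (g a) c hc
  simpa using h

theorem single (D : Subgroup (Equiv.Perm α)) (x : Equiv.Perm α) (hx : x ∈ D) (O : Finset α)
    (hO : IsOrb D O) (h2 : 2 ≤ O.card) (hTF : TransOrFix x O) :
    (∃ p ∈ O, x p ≠ p ∧ (x.cycleOf p).support = O) ∨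
      (∃ p ∈ O, ∃ q ∈ O, p ≠ q ∧ x p = p ∧ x q = q) := by
  rcases hTF with hT | ⟨p, hp, q, hq, hpq, hxp, hxq, _⟩
  · left
    obtain ⟨p, hp, q, hq, hpq⟩ := Finset.one_lt_card.1 h2
    have hxp : x p ≠ p := by
      intro hxp
      obtain ⟨i, hi⟩ := hT p hp q hq
      rw [Equiv.Perm.zpow_apply_eq_self_of_apply_eq_self hxp] at hi
      exact hpq hi
    refine ⟨p, hp, hxp, ?_⟩
    ext b
    rw [Equiv.Perm.mem_support_cycleOf_iff]
    constructor
    · rintro ⟨⟨i, hi⟩, _⟩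
      rw [← hi]
      exact hO.1 (x ^ i) (D.zpow_mem hx i) p hp
    · intro hb
      exact ⟨hT p hp b hb, Equiv.Perm.mem_support.2 hxp⟩
  · right
    exact ⟨p, hp, q, hq, hpq, hxp, hxq⟩

theorem TT (x : Equiv.Perm α) (hgood : Good x Finset.univ) (O O' : Finset α)
    (hdisj : ∀ c, c ∈ O → c ∈ O' → False) (hcard : O.card = O'.card)
    (h : ∃ p ∈ O, x p ≠ p ∧ (x.cycleOf p).support = O)
    (h' : ∃ p ∈ O', x p ≠ p ∧ (x.cycleOf p).support = O') : False := by
  obtain ⟨p, hp, hxp, hs⟩ := h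
  obtain ⟨q, hq, hxq, hs'⟩ := h'
  have hsc := hgood.1 p (Finset.mem_univ p) q (Finset.mem_univ q) hxp hxq
    (by rw [hs, hs', hcard])
  have hq2 : q ∈ (x.cycleOf p).support :=
    Equiv.Perm.mem_support_cycleOf_iff.2 ⟨hsc, Equiv.Perm.mem_support.2 hxp⟩
  rw [hs] at hq2
  exact hdisj q hq2 hq

theorem FF (x : Equiv.Perm α) (hgood : Good x Finset.univ) (O O' : Finset α)
    (hdisj : ∀ c, c ∈ O → c ∈ O' → False)
    (h : ∃ p ∈ O, ∃ q ∈ O, p ≠ q ∧ x p = p ∧ x q = q)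
    (h' : ∃ p ∈ O', ∃ q ∈ O', p ≠ q ∧ x p = p ∧ x q = q) : False := by
  obtain ⟨p, hp, q, hq, hpq, hxp, hxq⟩ := h
  obtain ⟨p', hp', q', hq', hpq', hxp', hxq'⟩ := h'
  rcases hgood.2 p (Finset.mem_univ p) q (Finset.mem_univ q) p' (Finset.mem_univ p')
    hxp hxq hxp' with h1 | h1 | h1
  · exact hpq h1
  · exact hdisj p' (h1 ▸ hp) hp'
  · exact hdisj p' (h1 ▸ hq) hp'

theorem no_odd_norm
    (hAR : ∀ (D : Subgroup (Equiv.Perm α)), IsPGroup 2 D → ∀ O : Finset α, IsOrb D O →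
      ∀ y ∈ D, Good y O → TransOrFix y O)
    (hT : ∀ (D : Subgroup (Equiv.Perm α)), IsPGroup 2 D → ∀ O : Finset α, IsOrb D O →
      ∀ y ∈ D, Good y O → ∀ g : Equiv.Perm α, (∀ d, d ∈ D ↔ g * d * g⁻¹ ∈ D) →
      (∀ a, a ∈ O ↔ g a ∈ O) → Odd (orderOf g) → ∀ a ∈ O, g a = a)
    (x : Equiv.Perm α) (hgood : Good x Finset.univ) (D : Subgroup (Equiv.Perm α))
    (hD : IsPGroup 2 D) (hxD : x ∈ D) (g : Equiv.Perm α) (hgD : ∀ d ∈ D, g * d * g⁻¹ ∈ D)
    (hodd : Odd (orderOf g)) : g = 1 := by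
  have hginv := conj_inv D g hgD
  have hiff : ∀ d, d ∈ D ↔ g * d * g⁻¹ ∈ D := fun d =>
    ⟨hgD d, fun h => by have h1 := hginv _ h; simpa [mul_assoc] using h1⟩
  ext a
  simp only [Equiv.Perm.coe_one, id]
  by_cases hga : g a ∈ orb D a
  · have hinva : g⁻¹ a ∈ orb D a := by
      have h1 := orb_pow D g hgD a hga (orderOf g - 1)
      rwa [pow_pred_eq_inv] at h1
    have hgO : ∀ b, b ∈ orb D a ↔ g b ∈ orb D a := by
      intro b
      constructor
      · intro hb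
        obtain ⟨d, hd, rfl⟩ := (mem_orb D a b).1 hb
        obtain ⟨d0, hd0, hd0a⟩ := (mem_orb D a _).1 hga
        refine (mem_orb D a _).2 ⟨g * d * g⁻¹ * d0, D.mul_mem (hgD d hd) hd0, ?_⟩
        simp [hd0a]
      · intro hb
        obtain ⟨d, hd, hdb⟩ := (mem_orb D a _).1 hb
        obtain ⟨d0, hd0, hd0a⟩ := (mem_orb D a _).1 hinva
        refine (mem_orb D a _).2 ⟨g⁻¹ * d * g * d0, D.mul_mem (hginv d hd) hd0, ?_⟩
        simp [hd0a, hdb]
    exact hT D hD (orb D a) (isOrb_orb D a) x hxD (good_mono x hgood _) g hiff hgO hodd a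
      (self_mem_orb D a)
  · exfalso
    have hc01 : (orb D (g a)).card = (orb D a).card := card_orb_map D g hgD hginv a
    have hc12 : (orb D (g (g a))).card = (orb D (g a)).card :=
      card_orb_map D g hgD hginv (g a)
    have hd01 : ∀ c, c ∈ orb D a → c ∈ orb D (g a) → False :=
      fun c h0 h1 => hga (common D _ _ c h0 h1)
    have hd12 : ∀ c, c ∈ orb D (g a) → c ∈ orb D (g (g a)) → False := by
      intro c h1 h2
      have h3 := common D _ _ c h1 h2
      have h4 := map_orb D g⁻¹ (by simpa using hginv) _ _ h3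
      have h5 : g⁻¹ (g (g a)) = g a := by simp
      have h6 : g⁻¹ (g a) = a := by simp
      rw [h5, h6] at h4
      exact hga h4
    have hd02 : ∀ c, c ∈ orb D a → c ∈ orb D (g (g a)) → False := by
      intro c h0 h2
      have h3 : (g * g) a ∈ orb D a := common D _ _ c h0 h2
      obtain ⟨m, hm⟩ := id hodd
      have hpow : (g * g) ^ (m + 1) = g := by
        rw [← pow_two, ← pow_mul, show 2 * (m + 1) = orderOf g + 1 by omega, pow_succ,
          pow_orderOf_eq_one, one_mul]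
      have hgg : ∀ d ∈ D, (g * g) * d * (g * g)⁻¹ ∈ D := by
        intro d hd
        have h5 := hgD _ (hgD d hd)
        have e : (g * g) * d * (g * g)⁻¹ = g * (g * d * g⁻¹) * g⁻¹ := by simp [mul_assoc]
        rw [e]; exact h5
      have h6 := orb_pow D (g * g) hgg a h3 (m + 1)
      rw [hpow] at h6
      exact hga h6
    have i0 := isOrb_orb D a
    have i1 := isOrb_orb D (g a)
    have i2 := isOrb_orb D (g (g a))
    by_cases hcard : (orb D a).card ≤ 1
    · have f0 : x a = a :=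
        Finset.card_le_one.1 hcard _ (i0.1 x hxD a (self_mem_orb D a)) _ (self_mem_orb D a)
      have f1 : x (g a) = g a :=
        Finset.card_le_one.1 (hc01 ▸ hcard) _ (i1.1 x hxD _ (self_mem_orb D (g a))) _
          (self_mem_orb D (g a))
      have f2 : x (g (g a)) = g (g a) :=
        Finset.card_le_one.1 (hc12 ▸ hc01 ▸ hcard) _
          (i2.1 x hxD _ (self_mem_orb D (g (g a)))) _ (self_mem_orb D (g (g a)))
      rcases hgood.2 a (Finset.mem_univ _) (g a) (Finset.mem_univ _) (g (g a))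
        (Finset.mem_univ _) f0 f1 f2 with h1 | h1 | h1
      · exact hd01 (g a) (h1 ▸ self_mem_orb D a) (self_mem_orb D (g a))
      · exact hd02 (g (g a)) (h1 ▸ self_mem_orb D a) (self_mem_orb D (g (g a)))
      · exact hd12 (g (g a)) (h1 ▸ self_mem_orb D (g a)) (self_mem_orb D (g (g a)))
    · have hc0 : 2 ≤ (orb D a).card := by omega
      have hc1 : 2 ≤ (orb D (g a)).card := by omega
      have hc2 : 2 ≤ (orb D (g (g a))).card := by omega
      have s0 := single D x hxD _ i0 hc0 (hAR D hD _ i0 x hxD (good_mono x hgood _))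
      have s1 := single D x hxD _ i1 hc1 (hAR D hD _ i1 x hxD (good_mono x hgood _))
      have s2 := single D x hxD _ i2 hc2 (hAR D hD _ i2 x hxD (good_mono x hgood _))
      rcases s0 with t0 | t0 <;> rcases s1 with t1 | t1 <;> rcases s2 with t2 | t2
      · exact TT x hgood _ _ hd01 hc01.symm t0 t1
      · exact TT x hgood _ _ hd01 hc01.symm t0 t1
      · exact TT x hgood _ _ hd02 (hc12.trans hc01).symm t0 t2
      · exact FF x hgood _ _ hd12 t1 t2
      · exact TT x hgood _ _ hd12 hc12.symm t1 t2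
      · exact FF x hgood _ _ hd02 t0 t2
      · exact FF x hgood _ _ hd01 t0 t1
      · exact FF x hgood _ _ hd01 t0 t1

end Cfsg.Agent.Helper3.S4349m
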