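import Cfsg.Agent.S0543
import Cfsg.Agent.S0540
import Cfsg.Agent.Helper3.ElemAb

set_option autoImplicit false
open Cfsg
open scoped Pointwise

/-!
Helper library (helper3): Hall complement systems and system normalizers.
-/

namespace Cfsg.Agent.Helper3

universe u

theorem card_conj_smul {G : Type u} [Group G] (g : G) (H : Subgroup G) :
    Nat.card ↥(MulAut.conj g • H : Subgroup G) = Nat.card H :=
  Subgroup.card_map_of_injective (MulAut.conj g).injective

theorem smul_eq_of_mem_normalizer {G : Type u} [Group G] {H : Subgroup G} {g : G}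
    (hg : g ∈ Subgroup.normalizer (H : Set G)) : MulAut.conj g • H = H :=
  Subgroup.mem_normalizer_iff_map_conj_eq.mp hg

theorem relIndex_sup_normal {G : Type u} [Group G] [Finite G] (H N : Subgroup G) [N.Normal] :
    H.relIndex (H ⊔ N) = H.relIndex N := by
  have hLE : H ≤ Subgroup.normalizer (N : Set G) := by
    rw [Subgroup.normalizer_eq_top]; exact le_top
  have h1 := card_mul_card_eq_of_le_normalizer H N hLE
  have h2 : Nat.card H * H.relIndex (H ⊔ N) = Nat.card ↥(H ⊔ N) := by
    have := Subgroup.card_mul_index (H.subgroupOf (H ⊔ N))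
    rwa [Nat.card_congr (Subgroup.subgroupOfEquivOfLe (le_sup_left : H ≤ H ⊔ N)).toEquiv] at this
  have h3 : Nat.card ↥(H ⊓ N) * H.relIndex N = Nat.card N := by
    have := Subgroup.card_mul_index ((H ⊓ N).subgroupOf N)
    rw [Nat.card_congr (Subgroup.subgroupOfEquivOfLe (inf_le_right : H ⊓ N ≤ N)).toEquiv] at this
    have h : ((H ⊓ N).subgroupOf N).index = H.relIndex N := Subgroup.inf_relIndex_right H N
    rwa [h] at this
  have hpos : 0 < Nat.card H * Nat.card ↥(H ⊓ N) := Nat.mul_pos Nat.card_pos Nat.card_pos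
  apply Nat.eq_of_mul_eq_mul_left hpos
  calc Nat.card H * Nat.card ↥(H ⊓ N) * H.relIndex (H ⊔ N)
      = (Nat.card H * H.relIndex (H ⊔ N)) * Nat.card ↥(H ⊓ N) := by ring
    _ = Nat.card ↥(H ⊔ N) * Nat.card ↥(H ⊓ N) := by rw [h2]
    _ = Nat.card H * Nat.card N := h1.symm
    _ = Nat.card H * (Nat.card ↥(H ⊓ N) * H.relIndex N) := by rw [h3]
    _ = Nat.card H * Nat.card ↥(H ⊓ N) * H.relIndex N := by ring

theorem relIndex_dvd_index_normal {G : Type u} [Group G] [Finite G] (H N : Subgroup G)
    [N.Normal] : H.relIndex N ∣ H.index := by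
  rw [← relIndex_sup_normal H N]
  exact Subgroup.relIndex_dvd_index_of_le le_sup_left

/-- a normal subgroup of order prime to the index of `H` lies in `H` -/
theorem normal_le_of_coprime_index {G : Type u} [Group G] [Finite G] (H N : Subgroup G)
    [N.Normal] (h : (Nat.card N).Coprime H.index) : N ≤ H := by
  rw [← Subgroup.relIndex_eq_one]
  have h1 : H.relIndex N ∣ H.index := relIndex_dvd_index_normal H N
  have h2 : H.relIndex N ∣ Nat.card N := Subgroup.relIndex_dvd_card H N
  have h3 := Nat.dvd_gcd h2 h1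
  rw [Nat.Coprime.gcd_eq_one h] at h3
  exact Nat.dvd_one.mp h3

theorem compl_card_coprime {G : Type u} [Group G] [Finite G] (K : Nat.Primes → Subgroup G)
    (hK : Cfsg.IsComplementSystem K) (p : Nat.Primes) : (Nat.card (K p)).Coprime (p : ℕ) := by
  have hn : Nat.card G ≠ 0 := Nat.card_pos.ne'
  rw [Nat.coprime_comm, Nat.Prime.coprime_iff_not_dvd p.2]
  intro hq
  have h1 : Nat.card (K p) * (K p).index = Nat.card G := Subgroup.card_mul_index (K p)
  have h2 : (K p).index = (p : ℕ) ^ (Nat.card G).factorization p := hK p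
  apply Nat.pow_succ_factorization_not_dvd hn p.2
  calc (p : ℕ) ^ ((Nat.card G).factorization p + 1)
      = (p : ℕ) * (p : ℕ) ^ (Nat.card G).factorization p := pow_succ' _ _
    _ ∣ Nat.card (K p) * (K p).index := by rw [h2]; exact Nat.mul_dvd_mul_right hq _
    _ = Nat.card G := h1

theorem index_eq_of_pow_of_coprime {G : Type u} [Group G] [Finite G] (H : Subgroup G) (p : ℕ)
    (hp : p.Prime) (k : ℕ) (h1 : H.index = p ^ k) (h2 : (Nat.card H).Coprime p) :
    H.index = p ^ (Nat.card G).factorization p := by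
  have e := Subgroup.card_mul_index H
  rw [h1] at e
  have hH : Nat.card H ≠ 0 := Nat.card_pos.ne'
  have hnd : ¬ p ∣ Nat.card H := by
    rw [← Nat.Prime.coprime_iff_not_dvd hp]; exact h2.symm
  have : (Nat.card G).factorization p = k := by
    rw [← e, Nat.factorization_mul hH (pow_ne_zero _ hp.ne_zero)]
    simp [hp.factorization_pow, Nat.factorization_eq_zero_of_not_dvd hnd]
  rw [this, h1]

/-- Hall `p'`-subgroups with the same join with a normal subgroup `N` are conjugate under `N` -/
theorem conj_in_sup {G : Type u} [Group G] [Finite G] [Group.IsSolvable G] (p : ℕ)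
    (hp : p.Prime) (N A B : Subgroup G) [N.Normal] (k : ℕ) (hA : A.index = p ^ k)
    (hB : B.index = p ^ k) (hcB : (Nat.card B).Coprime p)
    (hAB : A ⊔ N = B ⊔ N) : ∃ m ∈ N, MulAut.conj m • A = B := by
  have hAM : A ≤ B ⊔ N := by rw [← hAB]; exact le_sup_left
  have hBM : B ≤ B ⊔ N := le_sup_left
  have hcard : Nat.card A = Nat.card B := by
    have eA := Subgroup.card_mul_index A
    have eB := Subgroup.card_mul_index B
    rw [hA] at eA; rw [hB] at eB
    exact Nat.eq_of_mul_eq_mul_right (pow_pos hp.pos k) (eA.trans eB.symm)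
  have hrel : B.relIndex (B ⊔ N) ∣ p ^ k := hB ▸ Subgroup.relIndex_dvd_index_of_le hBM
  obtain ⟨j, -, hj⟩ := (Nat.dvd_prime_pow hp).1 hrel
  have hMc : Nat.card ↥(B ⊔ N) = Nat.card B * p ^ j := by
    have := Subgroup.card_mul_index (B.subgroupOf (B ⊔ N))
    rw [Nat.card_congr (Subgroup.subgroupOfEquivOfLe hBM).toEquiv] at this
    rw [← this, ← hj]; rfl
  have hcop : (Nat.card B).Coprime (p ^ j) := Nat.Coprime.pow_right _ hcB
  obtain ⟨g, hg⟩ := (Cfsg.Agent.Helper1.hall_aux _ ↥(B ⊔ N) rfl (Nat.card B) (p ^ j) hMc hcop).2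
    (B.subgroupOf (B ⊔ N)) (A.subgroupOf (B ⊔ N))
    (Nat.card_congr (Subgroup.subgroupOfEquivOfLe hBM).toEquiv)
    (by rw [Nat.card_congr (Subgroup.subgroupOfEquivOfLe hAM).toEquiv, hcard]; exact hcop)
  have hgM : (g : G) ∈ ((N ⊔ B : Subgroup G) : Set G) := by rw [sup_comm]; exact g.2
  rw [Subgroup.normal_mul] at hgM
  obtain ⟨n, hn, b, hb, hnb⟩ := Set.mem_mul.mp hgM
  refine ⟨n⁻¹, N.inv_mem hn, ?_⟩
  have hle : MulAut.conj n⁻¹ • A ≤ B := by
    intro y hy
    obtain ⟨a, ha, rfl⟩ := (Subgroup.mem_smul_pointwise_iff_exists _ _ _).mp hy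
    have h1 := hg ⟨a, hAM ha⟩ (Subgroup.mem_subgroupOf.mpr ha)
    have h2 : (g : G)⁻¹ * a * g ∈ B := Subgroup.mem_subgroupOf.mp h1
    rw [← hnb] at h2
    have h3 : MulAut.conj n⁻¹ • a = b * ((n * b)⁻¹ * a * (n * b)) * b⁻¹ := by
      rw [MulAut.smul_def, MulAut.conj_apply]; group
    rw [h3]
    exact B.mul_mem (B.mul_mem hb h2) (B.inv_mem hb)
  exact Subgroup.eq_of_le_of_card_ge hle (by rw [card_conj_smul]; exact hcard.ge)

theorem coprime_aux' (q : Nat.Primes) (s : Finset Nat.Primes) (hq : q ∉ s) (a : ℕ)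
    (f : Nat.Primes → ℕ) : ((q : ℕ) ^ a).Coprime (∏ p ∈ s, (p : ℕ) ^ f p) := by
  apply Nat.Coprime.prod_right
  intro p hp
  apply Nat.Coprime.pow
  rw [Nat.coprime_primes q.2 p.2]
  intro h
  apply hq
  rw [Nat.Primes.coe_nat_injective h]; exact hp

theorem index_biInf_prime_pow {H : Type u} [Group H] [Finite H] (T : Nat.Primes → Subgroup H)
    (k : Nat.Primes → ℕ) (hT : ∀ p, (T p).index = (p : ℕ) ^ k p) (s : Finset Nat.Primes) :
    (⨅ p ∈ s, T p).index = ∏ p ∈ s, (p : ℕ) ^ k p := by
  classical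
  induction s using Finset.induction_on with
  | empty => simp
  | insert q s hq ih =>
    have hc : (T q).index.Coprime (⨅ p ∈ s, T p).index := by
      rw [hT q, ih]
      exact coprime_aux' q s hq _ _
    rw [Finset.iInf_insert, Finset.prod_insert hq, index_inf_of_coprime _ _ hc, hT q, ih]

theorem exists_conj_rel_finset {G : Type u} [Group G] [Finite G] [Group.IsSolvable G]
    (N : Subgroup G) [N.Normal] (K L : Nat.Primes → Subgroup G)
    (hK : Cfsg.IsComplementSystem K) (hL : Cfsg.IsComplementSystem L)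
    (h : ∀ p, K p ⊔ N = L p ⊔ N) (s : Finset Nat.Primes) :
    ∃ n ∈ N, ∀ p ∈ s, MulAut.conj n • K p = L p := by
  classical
  have hT : ∀ p : Nat.Primes, ∃ k,
      ((Subgroup.normalizer (L p : Set G)).subgroupOf N).index = (p : ℕ) ^ k := by
    intro p
    have h1 : (Subgroup.normalizer (L p : Set G)).relIndex N ∣ (L p).relIndex N :=
      Subgroup.relIndex_dvd_of_le_left N Subgroup.le_normalizer
    have h2 : (L p).relIndex N ∣ (L p).index := relIndex_dvd_index_normal (L p) N
    have h3 := h1.trans h2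
    rw [hL p] at h3
    obtain ⟨j, -, hj⟩ := (Nat.dvd_prime_pow p.2).1 h3
    exact ⟨j, hj⟩
  choose k hk using hT
  induction s using Finset.induction_on with
  | empty => exact ⟨1, N.one_mem, fun p hp => absurd hp (Finset.notMem_empty p)⟩
  | insert q s hq ih =>
    obtain ⟨n, hn, hns⟩ := ih
    have hAidx : (MulAut.conj n • K q : Subgroup G).index
        = (q : ℕ) ^ (Nat.card G).factorization q := by
      rw [index_conj_smul, hK q]
    have hAN : (MulAut.conj n • K q : Subgroup G) ⊔ N = L q ⊔ N := by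
      rw [← h q]
      have : MulAut.conj n • (K q ⊔ N) = K q ⊔ N :=
        Subgroup.conj_smul_eq_self_of_mem (Subgroup.mem_sup_right hn)
      rw [Subgroup.smul_sup, Subgroup.Normal.conj_smul_eq_self n N] at this
      exact this
    obtain ⟨m, hm, hmA⟩ := conj_in_sup (q : ℕ) q.2 N _ _ _ hAidx (hL q)
      (compl_card_coprime L hL q) hAN
    have hcop : ((Subgroup.normalizer (L q : Set G)).subgroupOf N).index.Coprime
        (⨅ p ∈ s, (Subgroup.normalizer (L p : Set G)).subgroupOf N).index := by
      rw [hk q, index_biInf_prime_pow _ k hk s]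
      exact coprime_aux' q s hq _ _
    obtain ⟨t, ht, d, hd, htd⟩ := prod_of_coprime_index _ _ hcop ⟨m, hm⟩
    refine ⟨(d : G) * n, N.mul_mem d.2 hn, fun p hp => ?_⟩
    rw [map_mul, mul_smul]
    have hd' : ∀ p ∈ s, (d : G) ∈ Subgroup.normalizer (L p : Set G) := by
      intro p hp
      have := (iInf₂_le p hp :
        (⨅ p ∈ s, (Subgroup.normalizer (L p : Set G)).subgroupOf N) ≤ _) hd
      exact Subgroup.mem_subgroupOf.mp this
    rcases Finset.mem_insert.mp hp with hpq | hps
    · rw [hpq]
      have hmtd : m = (t : G) * (d : G) := by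
        have := congrArg Subtype.val htd
        simpa using this
      have h1 : MulAut.conj (t : G) • (MulAut.conj (d : G) • (MulAut.conj n • K q)) = L q := by
        rw [smul_smul, ← map_mul, ← hmtd]; exact hmA
      have h3 : MulAut.conj (d : G) • (MulAut.conj n • K q) = (MulAut.conj (t : G))⁻¹ • L q := by
        rw [← h1, inv_smul_smul]
      rw [h3, ← map_inv]
      exact smul_eq_of_mem_normalizer (inv_mem (Subgroup.mem_subgroupOf.mp ht))
    · rw [hns p hps]
      exact smul_eq_of_mem_normalizer (hd' p hps)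

/-- complement systems with the same image modulo a normal subgroup `N` are conjugate under `N` -/
theorem exists_conj_rel {G : Type u} [Group G] [Finite G] [Group.IsSolvable G]
    (N : Subgroup G) [N.Normal] (K L : Nat.Primes → Subgroup G)
    (hK : Cfsg.IsComplementSystem K) (hL : Cfsg.IsComplementSystem L)
    (h : ∀ p, K p ⊔ N = L p ⊔ N) :
    ∃ n ∈ N, ∀ p, MulAut.conj n • K p = L p := by
  classical
  obtain ⟨g, hgN, hg⟩ := exists_conj_rel_finset N K L hK hL h
    ((Nat.card G).primeFactors.subtype Nat.Prime)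
  refine ⟨g, hgN, fun p => ?_⟩
  by_cases hp : (p : ℕ) ∣ Nat.card G
  · apply hg p
    refine Finset.mem_subtype.mpr ?_
    rw [Nat.mem_primeFactors]
    exact ⟨p.2, hp, Nat.card_pos.ne'⟩
  · have h0 : (Nat.card G).factorization (p : ℕ) = 0 := Nat.factorization_eq_zero_of_not_dvd hp
    have hKp : K p = ⊤ := by
      rw [← Subgroup.index_eq_one, hK p, h0, pow_zero]
    have hLp : L p = ⊤ := by
      rw [← Subgroup.index_eq_one, hL p, h0, pow_zero]
    rw [hLp, ← Subgroup.index_eq_one, index_conj_smul, hKp, Subgroup.index_top]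

theorem complSystem_conj {G : Type u} [Group G] (K : Nat.Primes → Subgroup G)
    (hK : Cfsg.IsComplementSystem K) (g : G) :
    Cfsg.IsComplementSystem (fun p => MulAut.conj g • K p) := by
  intro p
  show (MulAut.conj g • K p : Subgroup G).index = _
  rw [index_conj_smul, hK p]

/-- the image of a complement system in a quotient is a complement system -/
theorem complSystem_map {G : Type u} [Group G] [Finite G] (K : Nat.Primes → Subgroup G)
    (hK : Cfsg.IsComplementSystem K) (N : Subgroup G) [N.Normal] :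
    Cfsg.IsComplementSystem (fun p => (K p).map (QuotientGroup.mk' N)) := by
  intro p
  show ((K p).map (QuotientGroup.mk' N)).index = _
  have h1 : ((K p).map (QuotientGroup.mk' N)).index ∣ (K p).index :=
    Subgroup.index_map_dvd (K p) (QuotientGroup.mk'_surjective N)
  rw [hK p] at h1
  obtain ⟨j, -, hj⟩ := (Nat.dvd_prime_pow p.2).1 h1
  apply index_eq_of_pow_of_coprime _ (p : ℕ) p.2 j hj
  exact Nat.Coprime.coprime_dvd_left (Subgroup.card_map_dvd (K p) (QuotientGroup.mk' N))
    (compl_card_coprime K hK p)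

theorem map_conj_smul {G H : Type*} [Group G] [Group H] (f : G →* H) (g : G) (A : Subgroup G) :
    (MulAut.conj g • A : Subgroup G).map f = MulAut.conj (f g) • A.map f := by
  ext y
  constructor
  · rintro ⟨x, hx, rfl⟩
    obtain ⟨a, ha, rfl⟩ := (Subgroup.mem_smul_pointwise_iff_exists _ _ _).mp hx
    refine (Subgroup.mem_smul_pointwise_iff_exists _ _ _).mpr ⟨f a, Subgroup.mem_map_of_mem f ha, ?_⟩
    simp [MulAut.smul_def, MulAut.conj_apply]
  · intro hy
    obtain ⟨z, ⟨a, ha, rfl⟩, rfl⟩ := (Subgroup.mem_smul_pointwise_iff_exists _ _ _).mp hy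
    refine ⟨MulAut.conj g • a, Subgroup.smul_mem_pointwise_smul _ _ _ ha, ?_⟩
    simp [MulAut.smul_def, MulAut.conj_apply]

/-- the system normalizer of the image system is the image of the system normalizer -/
theorem systemNormalizer_map {G : Type u} [Group G] [Finite G] [Group.IsSolvable G]
    (K : Nat.Primes → Subgroup G) (hK : Cfsg.IsComplementSystem K) (N : Subgroup G) [N.Normal] :
    Cfsg.systemNormalizer (fun p => (K p).map (QuotientGroup.mk' N))
      = (Cfsg.systemNormalizer K).map (QuotientGroup.mk' N) := by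
  apply le_antisymm
  · intro y hy
    obtain ⟨x, rfl⟩ := QuotientGroup.mk'_surjective N y
    have hy' : ∀ p : Nat.Primes, QuotientGroup.mk' N x ∈
        Subgroup.normalizer (((K p).map (QuotientGroup.mk' N) : Subgroup (G ⧸ N)) : Set (G ⧸ N)) :=
      fun p => (Subgroup.mem_iInf.mp hy) p
    have hsup : ∀ p : Nat.Primes, K p ⊔ N = (MulAut.conj x • K p : Subgroup G) ⊔ N := by
      intro p
      have e1 : ((MulAut.conj x • K p : Subgroup G)).map (QuotientGroup.mk' N)
          = (K p).map (QuotientGroup.mk' N) := by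
        rw [map_conj_smul]; exact smul_eq_of_mem_normalizer (hy' p)
      have e2 := congrArg (Subgroup.comap (QuotientGroup.mk' N)) e1
      rw [Subgroup.comap_map_eq, Subgroup.comap_map_eq, QuotientGroup.ker_mk'] at e2
      exact e2.symm
    obtain ⟨n, hn, hnK⟩ := exists_conj_rel N K (fun p => MulAut.conj x • K p) hK
      (complSystem_conj K hK x) hsup
    have hmem : n⁻¹ * x ∈ Cfsg.systemNormalizer K := by
      refine Subgroup.mem_iInf.mpr fun p => ?_
      apply Cfsg.Agent.S0540.mem_normalizer_of_smul_le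
      rw [map_mul, mul_smul, ← hnK p, smul_smul, ← map_mul, inv_mul_cancel, map_one, one_smul]
    refine ⟨n⁻¹ * x, hmem, ?_⟩
    rw [map_mul, map_inv]
    have : QuotientGroup.mk' N n = 1 := (QuotientGroup.eq_one_iff n).mpr hn
    rw [this, inv_one, one_mul]
  · rintro y ⟨x, hx, rfl⟩
    refine Subgroup.mem_iInf.mpr fun p => ?_
    exact Subgroup.le_normalizer_map (QuotientGroup.mk' N)
      (Subgroup.mem_map_of_mem _ ((Subgroup.mem_iInf.mp hx) p))

end Cfsg.Agent.Helper3
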