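import Cfsg.Agent.Helper3.SysNorm
import Cfsg.Agent.Helper19.PCenter
import Cfsg.Agent.Helper1.Hall

set_option autoImplicit false
open Cfsg
open scoped Pointwise

/-!
Helper library (helper3): system normalizers avoid eccentric minimal normal subgroups.
-/

namespace Cfsg.Agent.Helper3

universe u

theorem isPGroup_of_exp {G : Type u} [Group G] (B : Subgroup G) (p : ℕ)
    (hexp : ∀ x ∈ B, x ^ p = 1) : IsPGroup p B := by
  intro x
  refine ⟨1, ?_⟩
  rw [pow_one]
  exact Subtype.ext (by simpa using hexp x x.2)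

/-- a minimal normal `p`-subgroup `B` is centralized by every normal subgroup `M` which is a
`p`-group modulo `C_G(B)`; stated as: `M ≤ P ⊔ C_G(B)` for a Sylow `p`-subgroup `P`. -/
theorem exists_central_in_sylow {G : Type u} [Group G] [Finite G] (p : ℕ) [Fact p.Prime]
    (B : Subgroup G) [B.Normal] (hB : B ≠ ⊥) (hBp : IsPGroup p B) (P : Sylow p G) :
    ∃ z ∈ B, z ≠ 1 ∧ ∀ x ∈ (P : Subgroup G), x * z = z * x := by
  have hBP : B ≤ P := IsPGroup.le_sylow_of_normal hBp P
  have hdvd : p ∣ Nat.card (B.subgroupOf (P : Subgroup G)) := by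
    rw [Nat.card_congr (Subgroup.subgroupOfEquivOfLe hBP).toEquiv]
    rcases hBp.card_eq_or_dvd with h | h
    · exact absurd (Subgroup.eq_bot_of_card_eq B h) hB
    · exact h
  obtain ⟨b, hb, hb1, hbc⟩ := Cfsg.Agent.Helper19.exists_mem_center_of_normal
    (G := ↥(P : Subgroup G)) P.isPGroup' (B.subgroupOf (P : Subgroup G)) hdvd
  refine ⟨(b : G), Subgroup.mem_subgroupOf.mp hb, fun h => hb1 (Subtype.ext h), fun x hx => ?_⟩
  have := (Subgroup.mem_center_iff.mp hbc) ⟨x, hx⟩
  exact congrArg Subtype.val this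

/-- the system normalizer avoids every non-central minimal normal subgroup -/
theorem avoid_minNormal {G : Type u} [Group G] [Finite G] [Group.IsSolvable G]
    (K : Nat.Primes → Subgroup G) (hK : Cfsg.IsComplementSystem K) (B : Subgroup G) [hBn : B.Normal]
    (hB : B ≠ ⊥) (hmin : ∀ M : Subgroup G, M.Normal → M ≤ B → M = ⊥ ∨ M = B)
    (hnc : ¬ B ≤ Subgroup.center G) : B ⊓ Cfsg.systemNormalizer K = ⊥ := by
  classical
  obtain ⟨hcomm, p, hp, hexp⟩ := Cfsg.Agent.S0043.result B hB hmin
  haveI : Fact p.Prime := ⟨hp⟩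
  have hBp : IsPGroup p B := isPGroup_of_exp B p hexp
  have hCtop : Subgroup.centralizer (B : Set G) ≠ ⊤ := by
    intro h
    apply hnc
    intro b hb
    rw [Subgroup.mem_center_iff]
    intro g
    have hg : g ∈ Subgroup.centralizer (B : Set G) := by rw [h]; trivial
    exact (Subgroup.mem_centralizer_iff.mp hg b hb).symm
  haveI : Nontrivial (G ⧸ Subgroup.centralizer (B : Set G)) := by
    rcases subsingleton_or_nontrivial (G ⧸ Subgroup.centralizer (B : Set G)) with hs | hn
    · exact absurd (QuotientGroup.subgroup_eq_top_of_subsingleton _ hs) hCtop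
    · exact hn
  obtain ⟨Mb, hMbn, hMbne, hMbmin⟩ :=
    Cfsg.Agent.Helper1.exists_minimal_normal (G := G ⧸ Subgroup.centralizer (B : Set G))
  haveI := hMbn
  obtain ⟨-, r, hr, hrexp⟩ := Cfsg.Agent.S0043.result Mb hMbne hMbmin
  haveI : Fact r.Prime := ⟨hr⟩
  have hMbr : IsPGroup r Mb := isPGroup_of_exp Mb r hrexp
  haveI hMn : (Mb.comap (QuotientGroup.mk' (Subgroup.centralizer (B : Set G)))).Normal :=
    hMbn.comap _
  have hMC : ¬ Mb.comap (QuotientGroup.mk' (Subgroup.centralizer (B : Set G)))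
      ≤ Subgroup.centralizer (B : Set G) := by
    intro h
    apply hMbne
    rw [eq_bot_iff]
    intro y hy
    obtain ⟨x, rfl⟩ := QuotientGroup.mk'_surjective _ y
    have : x ∈ Subgroup.centralizer (B : Set G) := h hy
    rw [Subgroup.mem_bot]
    exact (QuotientGroup.eq_one_iff x).mpr this
  have hZbot : B ⊓ Subgroup.centralizer
      ((Mb.comap (QuotientGroup.mk' (Subgroup.centralizer (B : Set G))) : Subgroup G) : Set G)
      = ⊥ := by
    rcases hmin (B ⊓ Subgroup.centralizer
      ((Mb.comap (QuotientGroup.mk' (Subgroup.centralizer (B : Set G))) : Subgroup G) : Set G))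
      inferInstance inf_le_left with h | h
    · exact h
    · exfalso
      apply hMC
      have : B ≤ Subgroup.centralizer
          ((Mb.comap (QuotientGroup.mk' (Subgroup.centralizer (B : Set G))) : Subgroup G) : Set G) :=
        inf_eq_left.mp h
      exact Subgroup.le_centralizer_iff.mp this
  have hrp : r ≠ p := by
    rintro rfl
    obtain ⟨P⟩ : Nonempty (Sylow r G) := inferInstance
    obtain ⟨z, hzB, hz1, hzP⟩ := exists_central_in_sylow r B hB hBp P
    have hMP : Mb.comap (QuotientGroup.mk' (Subgroup.centralizer (B : Set G)))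
        ≤ (P : Subgroup G) ⊔ Subgroup.centralizer (B : Set G) := by
      have hMb : Mb ≤ (P : Subgroup G).map (QuotientGroup.mk' (Subgroup.centralizer (B : Set G))) := by
        have := IsPGroup.le_sylow_of_normal hMbr
          (P.mapSurjective (QuotientGroup.mk'_surjective (Subgroup.centralizer (B : Set G))))
        rwa [Sylow.coe_mapSurjective] at this
      calc Mb.comap (QuotientGroup.mk' (Subgroup.centralizer (B : Set G)))
          ≤ ((P : Subgroup G).map (QuotientGroup.mk' (Subgroup.centralizer (B : Set G)))).comap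
              (QuotientGroup.mk' (Subgroup.centralizer (B : Set G))) := Subgroup.comap_mono hMb
        _ = (P : Subgroup G) ⊔ Subgroup.centralizer (B : Set G) := by
            rw [Subgroup.comap_map_eq, QuotientGroup.ker_mk']
    have hzZ : z ∈ B ⊓ Subgroup.centralizer
        ((Mb.comap (QuotientGroup.mk' (Subgroup.centralizer (B : Set G))) : Subgroup G) : Set G) := by
      refine Subgroup.mem_inf.mpr ⟨hzB, ?_⟩
      rw [Subgroup.mem_centralizer_iff]
      intro m hm
      have hm' : m ∈ (((P : Subgroup G) ⊔ Subgroup.centralizer (B : Set G) : Subgroup G) : Set G) :=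
        hMP hm
      rw [Subgroup.mul_normal] at hm'
      obtain ⟨x, hx, c, hc, rfl⟩ := Set.mem_mul.mp hm'
      have h1 : c * z = z * c := (Subgroup.mem_centralizer_iff.mp hc z hzB).symm
      have h2 : x * z = z * x := hzP x hx
      calc x * c * z = x * (c * z) := mul_assoc _ _ _
        _ = x * (z * c) := by rw [h1]
        _ = (x * z) * c := (mul_assoc _ _ _).symm
        _ = z * x * c := by rw [h2]
        _ = z * (x * c) := mul_assoc _ _ _
    rw [hZbot, Subgroup.mem_bot] at hzZ
    exact hz1 hzZ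
  have hMK : Mb.comap (QuotientGroup.mk' (Subgroup.centralizer (B : Set G)))
      ≤ K ⟨p, hp⟩ ⊔ Subgroup.centralizer (B : Set G) := by
    have hidx := complSystem_map K hK (Subgroup.centralizer (B : Set G)) ⟨p, hp⟩
    have hMb : Mb ≤ (K ⟨p, hp⟩).map (QuotientGroup.mk' (Subgroup.centralizer (B : Set G))) := by
      apply normal_le_of_coprime_index
      obtain ⟨j, hj⟩ := IsPGroup.iff_card.mp hMbr
      rw [hj, hidx]
      exact Nat.Coprime.pow _ _ ((Nat.coprime_primes hr hp).mpr hrp)
    calc Mb.comap (QuotientGroup.mk' (Subgroup.centralizer (B : Set G)))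
        ≤ ((K ⟨p, hp⟩).map (QuotientGroup.mk' (Subgroup.centralizer (B : Set G)))).comap
            (QuotientGroup.mk' (Subgroup.centralizer (B : Set G))) := Subgroup.comap_mono hMb
      _ = K ⟨p, hp⟩ ⊔ Subgroup.centralizer (B : Set G) := by
          rw [Subgroup.comap_map_eq, QuotientGroup.ker_mk']
  have hBK : ∀ x ∈ B, x ∈ K ⟨p, hp⟩ → x = 1 := by
    intro x hxB hxK
    have h1 : orderOf x ∣ Nat.card (K ⟨p, hp⟩) := Subgroup.orderOf_dvd_natCard _ hxK
    have h3 : orderOf x ∣ p := orderOf_dvd_of_pow_eq_one (hexp x hxB)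
    have hcop : (Nat.card (K ⟨p, hp⟩)).Coprime p := compl_card_coprime K hK ⟨p, hp⟩
    have h4 := Nat.dvd_gcd h1 h3
    rw [Nat.Coprime.gcd_eq_one hcop] at h4
    exact orderOf_eq_one_iff.mp (Nat.dvd_one.mp h4)
  rw [eq_bot_iff]
  intro x hx
  obtain ⟨hxB, hxD⟩ := Subgroup.mem_inf.mp hx
  have hxN : x ∈ Subgroup.normalizer ((K ⟨p, hp⟩ : Subgroup G) : Set G) :=
    (Subgroup.mem_iInf.mp hxD) ⟨p, hp⟩
  have hxZ : x ∈ B ⊓ Subgroup.centralizer
      ((Mb.comap (QuotientGroup.mk' (Subgroup.centralizer (B : Set G))) : Subgroup G) : Set G) := by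
    refine Subgroup.mem_inf.mpr ⟨hxB, ?_⟩
    rw [Subgroup.mem_centralizer_iff]
    intro m hm
    have hm' : m ∈ ((K ⟨p, hp⟩ ⊔ Subgroup.centralizer (B : Set G) : Subgroup G) : Set G) :=
      hMK hm
    rw [Subgroup.mul_normal] at hm'
    obtain ⟨k, hk, c, hc, rfl⟩ := Set.mem_mul.mp hm'
    have h1 : c * x = x * c := (Subgroup.mem_centralizer_iff.mp hc x hxB).symm
    have h2 : k * x = x * k := by
      have ha : x * k * x⁻¹ * k⁻¹ ∈ K ⟨p, hp⟩ :=
        (K ⟨p, hp⟩).mul_mem ((Subgroup.mem_normalizer_iff.mp hxN k).mp hk) ((K ⟨p, hp⟩).inv_mem hk)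
      have hb : x * k * x⁻¹ * k⁻¹ ∈ B := by
        have : x * k * x⁻¹ * k⁻¹ = x * (k * x⁻¹ * k⁻¹) := by group
        rw [this]
        exact B.mul_mem hxB (hBn.conj_mem _ (B.inv_mem hxB) k)
      have h5 := hBK _ hb ha
      have h6 : x * k = (x * k * x⁻¹ * k⁻¹) * (k * x) := by group
      rw [h6, h5, one_mul]
    calc k * c * x = k * (c * x) := mul_assoc _ _ _
      _ = k * (x * c) := by rw [h1]
      _ = (k * x) * c := (mul_assoc _ _ _).symm
      _ = x * k * c := by rw [h2]
      _ = x * (k * c) := mul_assoc _ _ _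
  rw [hZbot] at hxZ
  exact hxZ

end Cfsg.Agent.Helper3
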