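import Mathlib
import Cfsg.Prelude.Def_GeometricClasses

set_option autoImplicit false
set_option linter.unusedSectionVars false

open scoped MatrixGroups

namespace Cfsg.Agent.Helper3.U3B1

variable {F : Type*} [Field F] [Fintype F] {p : ℕ} [Fact p.Prime] [CharP F p]

theorem TT1 : (!![-1, 0, 0; 0, 0, -1; 0, -1, 0] : Matrix (Fin 3) (Fin 3) F) *
    !![-1, 0, 0; 0, 0, -1; 0, -1, 0] = 1 := by
  ext i j
  fin_cases i <;> fin_cases j <;> simp [Matrix.mul_apply, Fin.sum_univ_three]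

theorem TA (ω : F) (hω3 : ω ^ 3 = 1) :
    (!![-1, 0, 0; 0, 0, -1; 0, -1, 0] : Matrix (Fin 3) (Fin 3) F) *
        Matrix.diagonal ![1, ω ^ 2, ω]
      = Matrix.diagonal ![1, ω ^ 2, ω] ^ 2 * !![-1, 0, 0; 0, 0, -1; 0, -1, 0] := by
  have h4 : ω ^ 4 = ω := by rw [show 4 = 3 + 1 from rfl, pow_succ, hω3, one_mul]
  rw [Matrix.diagonal_pow]
  ext i j
  fin_cases i <;> fin_cases j <;>
    simp [Matrix.mul_apply, Matrix.diagonal_apply, ← pow_mul, h4]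

theorem TC :
    (!![-1, 0, 0; 0, 0, -1; 0, -1, 0] : Matrix (Fin 3) (Fin 3) F) *
        !![0, 0, 1; 1, 0, 0; 0, 1, 0]
      = (!![0, 0, 1; 1, 0, 0; 0, 1, 0] : Matrix (Fin 3) (Fin 3) F) ^ 2 *
        !![-1, 0, 0; 0, 0, -1; 0, -1, 0] := by
  rw [pow_two]
  ext i j
  fin_cases i <;> fin_cases j <;> simp [Matrix.mul_apply, Fin.sum_univ_three]

theorem conjT (ω : F) (hω3 : ω ^ 3 = 1) (i j k : ℕ) :
    (!![-1, 0, 0; 0, 0, -1; 0, -1, 0] : Matrix (Fin 3) (Fin 3) F) *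
        (ω ^ i • (Matrix.diagonal ![1, ω ^ 2, ω] ^ j * !![0, 0, 1; 1, 0, 0; 0, 1, 0] ^ k)) *
        !![-1, 0, 0; 0, 0, -1; 0, -1, 0]
      = ω ^ i • (Matrix.diagonal ![1, ω ^ 2, ω] ^ (2 * j) *
          !![0, 0, 1; 1, 0, 0; 0, 1, 0] ^ (2 * k)) := by
  have hA : SemiconjBy (!![-1, 0, 0; 0, 0, -1; 0, -1, 0] : Matrix (Fin 3) (Fin 3) F)
      (Matrix.diagonal ![1, ω ^ 2, ω]) (Matrix.diagonal ![1, ω ^ 2, ω] ^ 2) := TA ω hω3
  have hC : SemiconjBy (!![-1, 0, 0; 0, 0, -1; 0, -1, 0] : Matrix (Fin 3) (Fin 3) F)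
      (!![0, 0, 1; 1, 0, 0; 0, 1, 0]) ((!![0, 0, 1; 1, 0, 0; 0, 1, 0] : Matrix (Fin 3) (Fin 3) F) ^ 2) :=
    TC
  have hAj := (hA.pow_right j).eq
  have hCk := (hC.pow_right k).eq
  rw [Matrix.mul_smul, Matrix.smul_mul, ← mul_assoc, hAj, mul_assoc, mul_assoc, ← mul_assoc _ _ (!![-1, 0, 0; 0, 0, -1; 0, -1, 0] : Matrix (Fin 3) (Fin 3) F), hCk,
    mul_assoc, TT1, mul_one, ← pow_mul, ← pow_mul]

theorem nz_T (R : Subgroup (GL (Fin 3) F)) (g : GL (Fin 3) F) (ω : F) (hω : ω ≠ 1)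
    (hω3 : ω ^ 3 = 1)
    (hRd : ∀ y : GL (Fin 3) F, y ∈ R ↔ ∃ i j k : ℕ, (y : Matrix (Fin 3) (Fin 3) F) =
      (g : Matrix (Fin 3) (Fin 3) F) * (ω ^ i • (Matrix.diagonal ![1, ω ^ 2, ω] ^ j *
        !![0, 0, 1; 1, 0, 0; 0, 1, 0] ^ k)) * ((g⁻¹ : GL (Fin 3) F) : Matrix (Fin 3) (Fin 3) F))
    (T : GL (Fin 3) F) (hT : (T : Matrix (Fin 3) (Fin 3) F) = !![-1, 0, 0; 0, 0, -1; 0, -1, 0]) :
    g * T * g⁻¹ ∈ Cfsg.Geo.subgroupNormalizer R := by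
  have hTT : T * T = 1 := by
    apply Units.ext
    rw [Units.val_mul, Units.val_one, hT]
    exact TT1
  have hnn : (g * T * g⁻¹) * (g * T * g⁻¹) = 1 := by
    calc (g * T * g⁻¹) * (g * T * g⁻¹) = g * (T * T) * g⁻¹ := by group
      _ = 1 := by rw [hTT]; group
  have hninv : (g * T * g⁻¹)⁻¹ = g * T * g⁻¹ := inv_eq_of_mul_eq_one_right hnn
  have hgi : ((g⁻¹ : GL (Fin 3) F) : Matrix (Fin 3) (Fin 3) F) * (g : Matrix (Fin 3) (Fin 3) F) = 1 := by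
    rw [← Units.val_mul, inv_mul_cancel, Units.val_one]
  have hfwd : ∀ y : GL (Fin 3) F, y ∈ R → (g * T * g⁻¹) * y * (g * T * g⁻¹)⁻¹ ∈ R := by
    intro y hy
    obtain ⟨i, j, k, hy⟩ := (hRd y).1 hy
    rw [hninv]
    refine (hRd _).2 ⟨i, 2 * j, 2 * k, ?_⟩
    rw [← conjT ω hω3 i j k]
    simp only [Units.val_mul, hy, hT]
    calc (g : Matrix (Fin 3) (Fin 3) F) * !![-1, 0, 0; 0, 0, -1; 0, -1, 0] * ((g⁻¹ : GL (Fin 3) F) : Matrix (Fin 3) (Fin 3) F) *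
          ((g : Matrix (Fin 3) (Fin 3) F) * (ω ^ i • (Matrix.diagonal ![1, ω ^ 2, ω] ^ j *
            !![0, 0, 1; 1, 0, 0; 0, 1, 0] ^ k)) * ((g⁻¹ : GL (Fin 3) F) : Matrix (Fin 3) (Fin 3) F)) *
          ((g : Matrix (Fin 3) (Fin 3) F) * !![-1, 0, 0; 0, 0, -1; 0, -1, 0] * ((g⁻¹ : GL (Fin 3) F) : Matrix (Fin 3) (Fin 3) F))
        = (g : Matrix (Fin 3) (Fin 3) F) * !![-1, 0, 0; 0, 0, -1; 0, -1, 0] * (((g⁻¹ : GL (Fin 3) F) : Matrix (Fin 3) (Fin 3) F) *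
          (g : Matrix (Fin 3) (Fin 3) F)) * (ω ^ i • (Matrix.diagonal ![1, ω ^ 2, ω] ^ j *
            !![0, 0, 1; 1, 0, 0; 0, 1, 0] ^ k)) * (((g⁻¹ : GL (Fin 3) F) : Matrix (Fin 3) (Fin 3) F) *
          (g : Matrix (Fin 3) (Fin 3) F)) * !![-1, 0, 0; 0, 0, -1; 0, -1, 0] * ((g⁻¹ : GL (Fin 3) F) : Matrix (Fin 3) (Fin 3) F) := by
          simp only [mul_assoc]
      _ = _ := by
          rw [hgi, mul_one, mul_one]
          simp only [mul_assoc]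
  unfold Cfsg.Geo.subgroupNormalizer
  rw [Subgroup.mem_normalizer_iff]
  intro y
  constructor
  · exact hfwd y
  · intro hy
    have h2 := hfwd _ hy
    rw [hninv] at h2
    have e : g * T * g⁻¹ * (g * T * g⁻¹ * y * (g * T * g⁻¹)) * (g * T * g⁻¹) = y := by
      calc g * T * g⁻¹ * (g * T * g⁻¹ * y * (g * T * g⁻¹)) * (g * T * g⁻¹)
          = ((g * T * g⁻¹) * (g * T * g⁻¹)) * y * ((g * T * g⁻¹) * (g * T * g⁻¹)) := by
            simp only [mul_assoc]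
        _ = y := by rw [hnn, one_mul, mul_one]
    rwa [e] at h2

end Cfsg.Agent.Helper3.U3B1
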